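import Cfsg.Agent.Lib.Lead.STab

set_option autoImplicit false

/-!
# Building a `FixBN` from the tables and the rank-one data
-/

namespace Cfsg.Agent.Lib.Lead.FixTwist

open Cfsg.Lie Matrix Cfsg.Agent.Lib.Helper6 Cfsg.Agent.Lib.Helper18 Cfsg.Agent.Lib.Helper36

variable {D : ChevalleyDatum} {K : Type*} [Field K]

/-- assembling. -/
def FixBN.ofSTab {X : BNData D K} (C : FixCore X) {ρ : ℕ → ℕ} {orbs chain : List (List ℕ)}
    (S : STab D ρ C.ρR orbs chain) {T : Fast} {W : WTab} (hc : Checks D T W)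
    (G1 : Subgroup (GL D.Idx K)) (G1_fixed : ∀ g ∈ G1, g ∈ C.F) (G1_le : G1 ≤ D.group K)
    (sO : List ℕ → GL D.Idx K) (sO_mem : ∀ O ∈ orbs, sO O ∈ G1)
    (sO_eq : ∀ O ∈ orbs, ∃ h ∈ D.diagonalSubgroup K, sO O = h * X.hB.nW O)
    (rank1 : ∀ O ∈ orbs, ∀ u ∈ X.hB.UmW O, u ∈ C.F → u ∈ G1)
    (orb_ne : ∀ O ∈ orbs, ∃ u ∈ X.hB.UmW O, u ∈ C.F ∧ u ≠ 1) : FixBN X where
  toFixCore := C
  G1 := G1
  G1_fixed := G1_fixed
  G1_le := G1_le
  orbs := orbs
  orb_lt := S.lt
  sO := sO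
  sO_mem := sO_mem
  sO_eq := sO_eq
  rank1 := rank1
  chain := chain
  chain_mem := S.chain_mem
  chain_red := S.chain_red
  chain_long := S.chain_long
  cover := S.cover
  neg_all := S.neg_all hc X.hT.tab
  sub_fixed := S.sub_fixed
  orb_sq := S.orb_sq
  orb_inj := S.orb_inj
  orb_ne := orb_ne

/-- an element of `N ∩ F` outside `H` represents the longest element, when there is only one orbit. -/
theorem exists_eq_mul_nW_of_long {X : BNData D K} (C : FixCore X) {ρ : ℕ → ℕ} {O : List ℕ} {chain : List (List ℕ)}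
    (S : STab D ρ C.ρR [O] chain) {T : Fast} {W : WTab} (hc : Checks D T W) (hO : IsLong D O)
    {n : GL D.Idx K} (hn : n ∈ D.monomialSubgroup K) (hF : n ∈ C.F) (hH : n ∉ D.diagonalSubgroup K) :
    ∃ h ∈ D.diagonalSubgroup K, n = h * X.hB.nW O := by
  have hTt := X.hT.tab
  have hOlt := hO.lt
  -- `n` makes all positive roots negative
  have hall : ∀ r : Fin D.nroots, D.IsPosRoot r → D.IsNegRoot (X.act n hn r : Fin D.nroots) := by
    obtain ⟨i, hi⟩ := X.exists_right_descent hn hH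
    have hcm := C.act_comm hn hF
    obtain ⟨h, hh, L, hL, e⟩ := X.hB.exists_word hTt hn
    subst e
    rw [X.act_hnW hh hL] at hcm hi ⊢
    intro r hr
    rw [wPerm_apply]
    obtain ⟨O', hO', hiO⟩ := S.cover i i.2
    rw [List.mem_singleton] at hO'
    subst hO'
    exact S.neg_all hc hTt L hL (fun x hx => congrArg Fin.val (hcm ⟨x, hx⟩)) O' (by simp) i hiO hi r hr (hO.pos r hr)
  have hnW : X.hB.nW O ∈ D.monomialSubgroup K := X.hB.nW_mem hTt hOlt
  have hn' : n * (X.hB.nW O)⁻¹ ∈ D.monomialSubgroup K := mul_mem hn (inv_mem hnW)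
  refine ⟨n * (X.hB.nW O)⁻¹, ?_, by group⟩
  by_contra hcon
  obtain ⟨j, hj⟩ := X.exists_right_descent hn' hcon
  rw [X.act_mul hn (inv_mem hnW), X.act_inv hnW, Equiv.Perm.mul_apply] at hj
  set s := (X.act (X.hB.nW O) hnW)⁻¹ (X.pI j) with hs
  have hs' : X.act (X.hB.nW O) hnW s = X.pI j := by rw [hs]; simp
  have hactO : X.act (X.hB.nW O) hnW = wPerm hTt O hOlt := by
    have := X.act_hnW (one_mem _) hOlt (by rw [one_mul]; exact hnW)
    rw [← this]
    exact X.act_congr (one_mul _).symm _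
  have hsneg : D.IsNegRoot (s : ℕ) := by
    rcases hTt.pos_or_neg s.2 with hp | hq
    · exfalso
      have h1 := hO.pos s hp
      have h2 : ((X.act (X.hB.nW O) hnW s : Fin D.nroots) : ℕ) = wAct D O s := by rw [hactO]; rfl
      rw [hs'] at h2
      rw [← h2] at h1
      exact hTt.not_pos_and_neg (hTt.isPos_simple j.2) h1
    · exact hq
  have h3 := hall (X.negR s) (hTt.isPos_neg hsneg)
  rw [X.act_neg hn] at h3
  have h4 : D.IsPosRoot (D.neg (X.negR (X.act n hn s) : Fin D.nroots)) := hTt.isPos_neg h3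
  have h5 : D.neg (X.negR (X.act n hn s) : Fin D.nroots) = (X.act n hn s : Fin D.nroots) :=
    hTt.neg_neg (X.act n hn s).2
  rw [h5] at h4
  exact hTt.not_pos_and_neg h4 hj

end Cfsg.Agent.Lib.Lead.FixTwist
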