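import Cfsg.Agent.Lib.Lead.ReeWord

set_option autoImplicit false

/-!
# The multiplication in a unipotent group of type `G₂` in characteristic 3 (abstract computation)
-/

namespace Cfsg.Agent.Lib.Lead.ReeWord

/-- all the relations between the six positive root subgroups in characteristic 3 -/
structure Sys2 (G K : Type*) [Group G] [Field K] extends Sys G K where
  hδ1 : δ = 1
  three : (3 : K) = 0
  aa : ∀ s t, xa s * xa t = xa (s + t)
  ab : ∀ s t, xb s * xb t = xb (s + t)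
  ca1 : ∀ A C, x1 C * xa A = xa A * x1 C * x2 (2 * A * C)
  ca2 : ∀ A C, Commute (xa A) (x2 C)
  ca3 : ∀ A C, Commute (xa A) (x3 C)
  ca4 : ∀ A C, Commute (xa A) (x4 C)
  cb1 : ∀ B C, Commute (xb B) (x1 C)
  cb2 : ∀ B C, Commute (xb B) (x2 C)
  cb3 : ∀ B C, x3 C * xb B = xb B * x3 C * x4 (-(B * C))
  cb4 : ∀ B C, Commute (xb B) (x4 C)

namespace Sys2

variable {G K : Type*} [Group G] [Field K] (S : Sys2 G K)

lemma y_xa (c1 c2 c3 c4 A : K) : S.y c1 c2 c3 c4 * S.xa A = S.xa A * S.y c1 (c2 + 2 * A * c1) c3 c4 := by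
  unfold Sys.y
  have e4 := (S.ca4 A c4).eq
  have e3 := (S.ca3 A c3).eq
  have e2 := (S.ca2 A c2).eq
  have e1 := S.ca1 A c1
  calc S.x1 c1 * S.x2 c2 * S.x3 c3 * S.x4 c4 * S.xa A
      = S.x1 c1 * S.x2 c2 * S.x3 c3 * (S.x4 c4 * S.xa A) := by group
    _ = S.x1 c1 * S.x2 c2 * (S.x3 c3 * S.xa A) * S.x4 c4 := by rw [← e4]; group
    _ = S.x1 c1 * (S.x2 c2 * S.xa A) * S.x3 c3 * S.x4 c4 := by rw [← e3]; group
    _ = (S.x1 c1 * S.xa A) * S.x2 c2 * S.x3 c3 * S.x4 c4 := by rw [← e2]; group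
    _ = S.xa A * S.x1 c1 * (S.x2 (2 * A * c1) * S.x2 c2) * S.x3 c3 * S.x4 c4 := by rw [e1]; group
    _ = S.xa A * (S.x1 c1 * S.x2 (c2 + 2 * A * c1) * S.x3 c3 * S.x4 c4) := by
        rw [S.a2, add_comm]; group

lemma y_xb (c1 c2 c3 c4 B : K) : S.y c1 c2 c3 c4 * S.xb B = S.xb B * S.y c1 c2 c3 (c4 - B * c3) := by
  unfold Sys.y
  have e4 := (S.cb4 B c4).eq
  have e3 := S.cb3 B c3
  have e2 := (S.cb2 B c2).eq
  have e1 := (S.cb1 B c1).eq
  calc S.x1 c1 * S.x2 c2 * S.x3 c3 * S.x4 c4 * S.xb B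
      = S.x1 c1 * S.x2 c2 * S.x3 c3 * (S.x4 c4 * S.xb B) := by group
    _ = S.x1 c1 * S.x2 c2 * (S.x3 c3 * S.xb B) * S.x4 c4 := by rw [← e4]; group
    _ = S.x1 c1 * (S.x2 c2 * S.xb B) * S.x3 c3 * (S.x4 (-(B * c3)) * S.x4 c4) := by rw [e3]; group
    _ = (S.x1 c1 * S.xb B) * S.x2 c2 * S.x3 c3 * (S.x4 (-(B * c3)) * S.x4 c4) := by rw [← e2]; group
    _ = S.xb B * (S.x1 c1 * S.x2 c2 * S.x3 c3 * S.x4 (c4 - B * c3)) := by
        rw [← e1, S.a4, neg_add_eq_sub]; group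

/-- the normal form (order `a, b, …`) -/
def can (A B c1 c2 c3 c4 : K) : G := S.xa A * S.xb B * S.y c1 c2 c3 c4

lemma can_congr {A B c1 c2 c3 c4 A' B' d1 d2 d3 d4 : K} (hA : A = A') (hB : B = B') (h1 : c1 = d1) (h2 : c2 = d2)
    (h3 : c3 = d3) (h4 : c4 = d4) : S.can A B c1 c2 c3 c4 = S.can A' B' d1 d2 d3 d4 := by
  rw [hA, hB, h1, h2, h3, h4]

theorem can_mul (A B c1 c2 c3 c4 A' B' d1 d2 d3 d4 : K) :
    S.can A B c1 c2 c3 c4 * S.can A' B' d1 d2 d3 d4 =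
      S.can (A + A') (B + B') (A' * B + c1 + d1) (A' ^ 2 * B + (c2 + 2 * A' * c1) + d2) (-A' ^ 3 * B + c3 + d3)
        (-A' ^ 3 * B ^ 2 + c4 - B' * (-A' ^ 3 * B + c3) + d4) := by
  unfold can
  have h1 := S.y_xa c1 c2 c3 c4 A'
  have h2 := S.hab A' B
  rw [S.hδ1] at h2
  have h2' : S.xb B * S.xa A' = S.xa A' * S.xb B * S.y (1 * A' * B) (A' ^ 2 * B) (-1 * A' ^ 3 * B) (-A' ^ 3 * B ^ 2) := h2
  calc S.xa A * S.xb B * S.y c1 c2 c3 c4 * (S.xa A' * S.xb B' * S.y d1 d2 d3 d4)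
      = S.xa A * S.xb B * (S.y c1 c2 c3 c4 * S.xa A') * S.xb B' * S.y d1 d2 d3 d4 := by group
    _ = S.xa A * (S.xb B * S.xa A') * S.y c1 (c2 + 2 * A' * c1) c3 c4 * S.xb B' * S.y d1 d2 d3 d4 := by
        rw [h1]; group
    _ = S.xa A * S.xa A' * S.xb B * (S.y (1 * A' * B) (A' ^ 2 * B) (-1 * A' ^ 3 * B) (-A' ^ 3 * B ^ 2) *
          S.y c1 (c2 + 2 * A' * c1) c3 c4) * S.xb B' * S.y d1 d2 d3 d4 := by rw [h2']; group
    _ = S.xa A * S.xa A' * S.xb B * (S.y (1 * A' * B + c1) (A' ^ 2 * B + (c2 + 2 * A' * c1)) (-1 * A' ^ 3 * B + c3)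
          (-A' ^ 3 * B ^ 2 + c4) * S.xb B') * S.y d1 d2 d3 d4 := by rw [S.y_mul]; group
    _ = S.xa A * S.xa A' * (S.xb B * S.xb B') * (S.y (1 * A' * B + c1) (A' ^ 2 * B + (c2 + 2 * A' * c1))
          (-1 * A' ^ 3 * B + c3) (-A' ^ 3 * B ^ 2 + c4 - B' * (-1 * A' ^ 3 * B + c3)) * S.y d1 d2 d3 d4) := by
        rw [S.y_xb]; group
    _ = _ := by
        rw [S.aa, S.ab, S.y_mul]
        congr 1
        apply S.y_congr <;> ring

lemma word_eq_can (t u v : K) : S.word t u v = S.can (S.f t) t (S.f t * t + S.f u) ((S.f t) ^ 2 * t + S.f v) u v := by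
  unfold Sys.word can
  rw [S.hδ1]
  simp only [one_mul]

/-- passage to the other order -/
lemma ba_eq_can (A B c1 c2 c3 c4 : K) : S.xb B * S.xa A * S.y c1 c2 c3 c4 =
    S.can A B (A * B + c1) (A ^ 2 * B + c2) (-A ^ 3 * B + c3) (-A ^ 3 * B ^ 2 + c4) := by
  have h2 := S.hab A B
  rw [S.hδ1] at h2
  have h2' : S.xb B * S.xa A = S.xa A * S.xb B * S.y (1 * A * B) (A ^ 2 * B) (-1 * A ^ 3 * B) (-A ^ 3 * B ^ 2) := h2
  unfold can
  rw [h2', mul_assoc, S.y_mul]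
  congr 1
  apply S.y_congr <;> ring

variable (huniq : ∀ b a c1 c2 c3 c4 b' a' c1' c2' c3' c4' : K,
      S.xb b * S.xa a * S.y c1 c2 c3 c4 = S.xb b' * S.xa a' * S.y c1' c2' c3' c4' →
      b = b' ∧ a = a' ∧ c1 = c1' ∧ c2 = c2' ∧ c3 = c3' ∧ c4 = c4')

include huniq in
theorem can_inj {A B c1 c2 c3 c4 A' B' d1 d2 d3 d4 : K}
    (h : S.can A B c1 c2 c3 c4 = S.can A' B' d1 d2 d3 d4) :
    A = A' ∧ B = B' ∧ c1 = d1 ∧ c2 = d2 ∧ c3 = d3 ∧ c4 = d4 := by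
  have e1 : S.can A B c1 c2 c3 c4 = S.xb B * S.xa A * S.y (c1 - A * B) (c2 - A ^ 2 * B) (c3 + A ^ 3 * B)
      (c4 + A ^ 3 * B ^ 2) := by
    rw [S.ba_eq_can]; apply S.can_congr <;> ring
  have e2 : S.can A' B' d1 d2 d3 d4 = S.xb B' * S.xa A' * S.y (d1 - A' * B') (d2 - A' ^ 2 * B') (d3 + A' ^ 3 * B')
      (d4 + A' ^ 3 * B' ^ 2) := by
    rw [S.ba_eq_can]; apply S.can_congr <;> ring
  rw [e1, e2] at h
  obtain ⟨rfl, rfl, h1, h2, h3, h4⟩ := huniq _ _ _ _ _ _ _ _ _ _ _ _ h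
  exact ⟨rfl, rfl, sub_left_injective h1, sub_left_injective h2, add_right_cancel h3, add_right_cancel h4⟩

lemma x_zero {x : K → G} (h : ∀ s t, x s * x t = x (s + t)) : x 0 = 1 := by
  have := h 0 0
  rw [add_zero] at this
  exact mul_eq_left.mp this

lemma can_zero : S.can 0 0 0 0 0 0 = 1 := by
  unfold can Sys.y
  rw [x_zero S.aa, x_zero S.ab, x_zero S.a1, x_zero S.a2, x_zero S.a3, x_zero S.a4]
  simp

include huniq in
/-- the first coordinate is additive -/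
theorem word_mul_coord {t u v t' u' v' t'' u'' v'' : K} (h : S.word t u v * S.word t' u' v' = S.word t'' u'' v'') :
    t'' = t + t' := by
  rw [S.word_eq_can, S.word_eq_can, S.word_eq_can, S.can_mul] at h
  exact (S.can_inj huniq h).2.1.symm

include huniq in
/-- an element with non-zero first coordinate is not of order 3 -/
theorem eq_zero_of_word_cube {t u v : K} (h : S.word t u v * S.word t u v * S.word t u v = 1) : t = 0 := by
  rw [S.word_eq_can, S.can_mul, S.can_mul, ← S.can_zero] at h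
  have h2 := (S.can_inj huniq h).2.2.2.1
  have h3 : (S.f t) ^ 2 * t = 0 := by
    linear_combination (-1 : K) * h2 + (2 * (S.f t) ^ 2 * t + ((S.f t) ^ 2 * t + S.f v) + 2 * S.f t * (S.f t * t + S.f u)) * S.three
  rcases mul_eq_zero.mp h3 with h4 | h4
  · exact (map_eq_zero S.f).mp (pow_eq_zero_iff (two_ne_zero) |>.mp h4)
  · exact h4

lemma word_zero (u v : K) : S.word 0 u v = S.y (S.f u) (S.f v) u v := by
  unfold Sys.word
  rw [S.hδ1]
  simp only [one_mul, map_zero, x_zero S.aa, x_zero S.ab, mul_zero, zero_add]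

lemma word_zero_mul (u v u' v' : K) : S.word 0 u v * S.word 0 u' v' = S.word 0 (u + u') (v + v') := by
  rw [S.word_zero, S.word_zero, S.word_zero, S.y_mul, map_add, map_add]

lemma word_zero_zero : S.word 0 0 0 = 1 := by
  rw [S.word_eq_can, ← S.can_zero]
  apply S.can_congr <;> simp

lemma word_zero_cube (u v : K) : S.word 0 u v * S.word 0 u v * S.word 0 u v = 1 := by
  rw [S.word_zero_mul, S.word_zero_mul, ← S.word_zero_zero]
  congr 1
  · linear_combination u * S.three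
  · linear_combination v * S.three

end Sys2

end Cfsg.Agent.Lib.Lead.ReeWord
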