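import Cfsg.Agent.Lib.Lead.ReeOrd
import Cfsg.Agent.Lib.Lead.ReeMul

set_option autoImplicit false

/-!
# `²G₂`: the multiplication of `U¹` and the action of `H¹`
-/

namespace Cfsg.Agent.Lib.Lead.Ree

open Cfsg.Lie Matrix Cfsg.Agent.Lib.Helper6 Cfsg.Agent.Lib.Helper18 Cfsg.Agent.Lib.Lead.ChevSpecial
  Cfsg.Agent.Lib.Lead.FixTwist Cfsg.Agent.Lib.Helper17

section rel

variable {K : Type*} [Field K] [CharP K 3]

theorem three_eq_zero : (3 : K) = 0 := by
  have := CharP.cast_eq_zero K 3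
  exact_mod_cast this

theorem rel_a1 (hB : Base chevG2 K) (A C : K) :
    hB.xg 8 C * hB.xg 7 A = hB.xg 7 A * hB.xg 8 C * hB.xg 9 (2 * A * C) := by
  apply Units.ext
  simp only [Units.val_mul, hB.coe_xg]
  rw [hB.comm 7 8 (by decide) (by decide) (by decide) (by decide) A C]
  congr 1
  unfold ChevalleyDatum.wordMat ChevalleyDatum.commWord
  rw [show chevG2.commTerms 7 8 = [(9, -2, 1, 1), (10, -3, 2, 1), (11, 3, 1, 2)] from by decide +kernel]
  simp only [List.map, List.prod_cons, List.prod_nil, mul_one]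
  rw [show (((-2 : ℤ) : ℤ) : K) * (-A) ^ 1 * C ^ 1 = 2 * A * C by push_cast; ring,
    show (((-3 : ℤ) : ℤ) : K) * (-A) ^ 2 * C ^ 1 = 0 by push_cast; rw [three_eq_zero]; ring,
    show (((3 : ℤ) : ℤ) : K) * (-A) ^ 1 * C ^ 2 = 0 by push_cast; rw [three_eq_zero]; ring,
    hB.x_zero, hB.x_zero, mul_one, mul_one]

omit [CharP K 3] in
theorem rel_b3 (hB : Base chevG2 K) (B C : K) :
    hB.xg 10 C * hB.xg 6 B = hB.xg 6 B * hB.xg 10 C * hB.xg 11 (-(B * C)) := by
  apply Units.ext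
  simp only [Units.val_mul, hB.coe_xg]
  rw [hB.comm 6 10 (by decide) (by decide) (by decide) (by decide) B C]
  congr 1
  unfold ChevalleyDatum.wordMat ChevalleyDatum.commWord
  rw [show chevG2.commTerms 6 10 = [(11, 1, 1, 1)] from by decide +kernel]
  simp only [List.map, List.prod_cons, List.prod_nil, mul_one]
  rw [show (((1 : ℤ) : ℤ) : K) * (-B) ^ 1 * C ^ 1 = -(B * C) by push_cast; ring]

end rel

variable {K : Type*} [Field K] [Fintype K] {m : ℕ} (hK : Fintype.card K = 3 ^ (2 * m + 1))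
  (T : STwist (bnData_of_mem K memG2))
  (hρR : T.ρR = rhoRG2) (hf : ∀ r t, T.f r t = t ^ (3 ^ (m + kG2 r))) [CharP K 3] [Fact (Nat.Prime 3)]

/-- the full system of relations of the positive roots -/
noncomputable def sysU2 : ReeWord.Sys2 ↥(chevG2.group K) K :=
  { sysU hK T hρR hf with
    hδ1 := rfl
    three := three_eq_zero
    aa := xG_add _ _ (by decide)
    ab := xG_add _ _ (by decide)
    ca1 := fun A C => Subtype.ext (rel_a1 (bnData_of_mem K memG2).hB A C)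
    ca2 := xG_commute _ (by decide) (by decide) (by decide) (by decide) (by decide +kernel)
    ca3 := xG_commute _ (by decide) (by decide) (by decide) (by decide) (by decide +kernel)
    ca4 := xG_commute _ (by decide) (by decide) (by decide) (by decide) (by decide +kernel)
    cb1 := xG_commute _ (by decide) (by decide) (by decide) (by decide) (by decide +kernel)
    cb2 := xG_commute _ (by decide) (by decide) (by decide) (by decide) (by decide +kernel)
    cb3 := fun B C => Subtype.ext (rel_b3 (bnData_of_mem K memG2).hB B C)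
    cb4 := xG_commute _ (by decide) (by decide) (by decide) (by decide) (by decide +kernel) }

theorem sysU2_toSys : (sysU2 hK T hρR hf).toSys = sysU hK T hρR hf := rfl

omit [Fintype K] [CharP K 3] [Fact (Nat.Prime 3)] in
theorem chi_10 (z : Fin chevG2.rank → Kˣ) : chi z 10 = z ⟨0, by decide⟩ ^ 3 * (z ⟨1, by decide⟩)⁻¹ := by
  unfold chi
  rw [show (∏ i : Fin chevG2.rank, z i ^ chevG2.cartan i 10) = ∏ i : Fin 2, z i ^ chevG2.cartan i 10 from rfl,
    Fin.prod_univ_two]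
  rw [show chevG2.cartan ((0 : Fin 2) : ℕ) 10 = 3 by decide +kernel,
    show chevG2.cartan ((1 : Fin 2) : ℕ) 10 = -1 by decide +kernel]
  rw [_root_.zpow_neg_one]; rfl

omit [Fintype K] [CharP K 3] [Fact (Nat.Prime 3)] in
theorem chi_11 (z : Fin chevG2.rank → Kˣ) : chi z 11 = z ⟨1, by decide⟩ := by
  unfold chi
  rw [show (∏ i : Fin chevG2.rank, z i ^ chevG2.cartan i 11) = ∏ i : Fin 2, z i ^ chevG2.cartan i 11 from rfl,
    Fin.prod_univ_two]
  rw [show chevG2.cartan ((0 : Fin 2) : ℕ) 11 = 0 by decide +kernel,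
    show chevG2.cartan ((1 : Fin 2) : ℕ) 11 = 1 by decide +kernel]
  rw [_root_.zpow_zero, _root_.zpow_one, one_mul]; rfl

/-- `h(c)` as an element of the Chevalley group -/
noncomputable def hG (K : Type*) [Field K] (m : ℕ) (c : Kˣ) : ↥(chevG2.group K) :=
  ⟨hR K m c, (bnData_of_mem K memG2).hB.H_le_group (bnData_of_mem K memG2).hT.tab (hR_mem_H c)⟩

omit [Fintype K] [CharP K 3] [Fact (Nat.Prime 3)] in
theorem hG_conj_xG (c : Kˣ) (r : ℕ) (hr : r < 12) (t : K) :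
    MulAut.conj (hG K m c) (xG (bnData_of_mem K memG2).hB r hr t) =
      xG (bnData_of_mem K memG2).hB r hr ((chi (zz (c ^ 3 ^ m) c) r : K) * t) :=
  Subtype.ext (Cfsg.Agent.Lib.Helper36.hHom_conj memG2 (bnData_of_mem K memG2).hB (zz (c ^ 3 ^ m) c) hr t)

/-- the character of `h(c)` on the first coordinate -/
def chB (m : ℕ) (c : Kˣ) : Kˣ := (c ^ 3 ^ (m + 1))⁻¹ * c ^ 2
/-- the character of `h(c)` on the second coordinate -/
def ch3 (m : ℕ) (c : Kˣ) : Kˣ := c ^ 3 ^ (m + 1) * c⁻¹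

omit [Fintype K] [CharP K 3] [Fact (Nat.Prime 3)] in
theorem chi6_eq (c : Kˣ) : chi (zz (c ^ 3 ^ m) c) 6 = chB m c := by
  rw [chi_b]
  simp only [zz, chB, if_true, one_ne_zero, if_false]
  rw [← pow_mul, ← pow_succ]

omit [Fintype K] [CharP K 3] [Fact (Nat.Prime 3)] in
theorem chi10_eq (c : Kˣ) : chi (zz (c ^ 3 ^ m) c) 10 = ch3 m c := by
  rw [chi_10]
  simp only [zz, ch3, if_true, one_ne_zero, if_false]
  rw [← pow_mul, ← pow_succ]

omit [Fintype K] [CharP K 3] [Fact (Nat.Prime 3)] in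
theorem chi11_eq (c : Kˣ) : chi (zz (c ^ 3 ^ m) c) 11 = c := by
  rw [chi_11]; simp [zz]

theorem conj_can (c : Kˣ) (A B c1 c2 c3 c4 : K) :
    MulAut.conj (hG K m c) ((sysU2 hK T hρR hf).can A B c1 c2 c3 c4) =
      (sysU2 hK T hρR hf).can ((chi (zz (c ^ 3 ^ m) c) 7 : K) * A) ((chB m c : K) * B)
        ((chi (zz (c ^ 3 ^ m) c) 8 : K) * c1) ((chi (zz (c ^ 3 ^ m) c) 9 : K) * c2) ((ch3 m c : K) * c3) ((c : K) * c4) := by
  unfold ReeWord.Sys2.can ReeWord.Sys.y
  simp only [map_mul]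
  have e11 : ((c : Kˣ) : K) * c4 = (chi (zz (c ^ 3 ^ m) c) 11 : K) * c4 := by rw [chi11_eq]
  rw [← chi6_eq, ← chi10_eq, e11]
  exact congrArg₂ _ (congrArg₂ _ (hG_conj_xG c 7 (by decide) A) (hG_conj_xG c 6 (by decide) B))
    (congrArg₂ _ (congrArg₂ _ (congrArg₂ _ (hG_conj_xG c 8 (by decide) c1) (hG_conj_xG c 9 (by decide) c2)) (hG_conj_xG c 10 (by decide) c3))
      (hG_conj_xG c 11 (by decide) c4))

theorem huniqU2 : ∀ b a c1 c2 c3 c4 b' a' c1' c2' c3' c4' : K,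
    (sysU2 hK T hρR hf).xb b * (sysU2 hK T hρR hf).xa a * (sysU2 hK T hρR hf).y c1 c2 c3 c4 =
      (sysU2 hK T hρR hf).xb b' * (sysU2 hK T hρR hf).xa a' * (sysU2 hK T hρR hf).y c1' c2' c3' c4' →
    b = b' ∧ a = a' ∧ c1 = c1' ∧ c2 = c2' ∧ c3 = c3' ∧ c4 = c4' := huniqU hK T hρR hf

/-- elements of `U ∩ F` in the group are words -/
theorem exists_word {g : ↥(chevG2.group K)} (hU : (g : GL chevG2.Idx K) ∈ chevG2.posUnipotent K)
    (hF : (g : GL chevG2.Idx K) ∈ T.F) : ∃ t u v, g = (sysU2 hK T hρR hf).word t u v := by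
  obtain ⟨t, u, v, h⟩ := (mem_U_inf_F_iff hK T hρR hf _).1 ⟨hU, hF⟩
  refine ⟨t, u, v, Subtype.ext (Units.ext ?_)⟩
  rw [h]
  exact (coe_wordU hK T hρR hf t u v).symm

include hK hρR hf in
theorem hG_mem_F (c : Kˣ) : ((hG K m c : ↥(chevG2.group K)) : GL chevG2.Idx K) ∈ T.F :=
  ((mem_H_inf_F_iff hK T hρR hf _).2 ⟨c, rfl⟩).2

/-- the action of `h(c)` on `U¹` -/
theorem conj_word (c : Kˣ) (t u v : K) :
    MulAut.conj (hG K m c) ((sysU2 hK T hρR hf).word t u v) =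
      (sysU2 hK T hρR hf).word ((chB m c : K) * t) ((ch3 m c : K) * u) ((c : K) * v) := by
  have hU : ((MulAut.conj (hG K m c) ((sysU2 hK T hρR hf).word t u v) : ↥(chevG2.group K)) : GL chevG2.Idx K) ∈
      chevG2.posUnipotent K :=
    (bnData_of_mem K memG2).hB.H_conj_U (hR_mem_H c) (wordU_mem_U hK T hρR hf t u v)
  have hF : ((MulAut.conj (hG K m c) ((sysU2 hK T hρR hf).word t u v) : ↥(chevG2.group K)) : GL chevG2.Idx K) ∈ T.F :=
    conj_mem_F T (hG_mem_F hK T hρR hf c) (wordU_mem_F hK T hρR hf t u v)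
  obtain ⟨t', u', v', e⟩ := exists_word hK T hρR hf hU hF
  rw [e]
  rw [ReeWord.Sys2.word_eq_can, conj_can, ReeWord.Sys2.word_eq_can] at e
  obtain ⟨-, h1, -, -, h3, h4⟩ := (sysU2 hK T hρR hf).can_inj (huniqU2 hK T hρR hf) e
  rw [h1, h3, h4]

end Cfsg.Agent.Lib.Lead.Ree
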