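import Cfsg.Agent.Lib.Lead.ReeFix

set_option autoImplicit false

/-!
# `²G₂`: the `FixBN` structure
-/

namespace Cfsg.Agent.Lib.Lead.Ree

open Cfsg.Lie Matrix Cfsg.Agent.Lib.Helper6 Cfsg.Agent.Lib.Helper18 Cfsg.Agent.Lib.Lead.ChevSpecial
  Cfsg.Agent.Lib.Lead.FixTwist Cfsg.Agent.Lib.Helper17

variable {K : Type*} [Field K] [Fintype K] {m : ℕ} (hK : Fintype.card K = 3 ^ (2 * m + 1))
  (T : STwist (bnData_of_mem K memG2))
  (hρR : T.ρR = rhoRG2) (hf : ∀ r t, T.f r t = t ^ (3 ^ (m + kG2 r))) [CharP K 3] [Fact (Nat.Prime 3)]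

def wG2 : List ℕ := [0, 1, 0, 1, 0, 1]

omit [Fact (Nat.Prime 3)] in
theorem isLong_wG2 : IsLong chevG2 wG2 := sTabG2.chain_long

theorem coe_wordV_one : (((sysV hK T hρR hf).word 0 0 1 : ↥(chevG2.group K)) : GL chevG2.Idx K) =
    (bnData_of_mem K memG2).hB.xg 2 (-1) * (bnData_of_mem K memG2).hB.xg 0 (-1) := by
  simp [ReeWord.Sys.word, ReeWord.Sys.y, sysV, xG]

theorem coe_wordU_one : (((sysU hK T hρR hf).word 0 0 1 : ↥(chevG2.group K)) : GL chevG2.Idx K) =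
    (bnData_of_mem K memG2).hB.xg 9 1 * (bnData_of_mem K memG2).hB.xg 11 1 := by
  simp [ReeWord.Sys.word, ReeWord.Sys.y, sysU, xG]

omit [Fintype K] [CharP K 3] [Fact (Nat.Prime 3)] in
theorem xg_mul_ne_one_pos : (bnData_of_mem K memG2).hB.xg 9 1 * (bnData_of_mem K memG2).hB.xg 11 1 ≠ 1 := by
  intro h
  have h1 : (bnData_of_mem K memG2).hB.xg 9 1 = (bnData_of_mem K memG2).hB.xg 11 (-1) := by
    rw [← Base.xg_inv]; exact eq_inv_of_mul_eq_one_left h
  have := Cfsg.Agent.Lib.Helper36.root_eq_of_xg_eq memG2 (bnData_of_mem K memG2).hB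
    (r := 11) (s := 9) ((tabG2.pos_iff 11 (by decide)).2 (by decide)) (by decide) one_ne_zero h1
  exact absurd this (by decide)

omit [Fintype K] [CharP K 3] [Fact (Nat.Prime 3)] in
theorem xg_mul_ne_one_neg : (bnData_of_mem K memG2).hB.xg 2 (-1) * (bnData_of_mem K memG2).hB.xg 0 (-1) ≠ 1 := by
  intro h
  have h1 : (bnData_of_mem K memG2).hB.xg 2 (-1) = (bnData_of_mem K memG2).hB.xg 0 1 := by
    have := eq_inv_of_mul_eq_one_left h
    rwa [Base.xg_inv, neg_neg] at this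
  obtain ⟨η, hη, e1⟩ := (bnData_of_mem K memG2).hB.nW_conj_xg tabG2 isLong_wG2.lt (r := 2) (by decide)
  obtain ⟨η', hη', e2⟩ := (bnData_of_mem K memG2).hB.nW_conj_xg tabG2 isLong_wG2.lt (r := 0) (by decide)
  have h2 : (bnData_of_mem K memG2).hB.xg (wAct chevG2 wG2 2) (η * -1) =
      (bnData_of_mem K memG2).hB.xg (wAct chevG2 wG2 0) (η' * 1) := by rw [← e1, ← e2, h1]
  have h3 := Cfsg.Agent.Lib.Helper36.root_eq_of_xg_eq memG2 (bnData_of_mem K memG2).hB
    (r := wAct chevG2 wG2 0) (s := wAct chevG2 wG2 2) (by decide +kernel) (by decide +kernel)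
    (by rcases hη with rfl | rfl <;> simp) h2
  exact absurd h3 (by decide +kernel)

include hK hρR hf in
/-- a representative of the longest element in `G¹`. -/
theorem exists_sO : ∃ n ∈ twistedG2 K (3 ^ m), ∃ h ∈ chevG2.diagonalSubgroup K,
    n = h * (bnData_of_mem K memG2).hB.nW wG2 := by
  let X := bnData_of_mem K memG2
  set v0 : GL chevG2.Idx K := (((sysV hK T hρR hf).word 0 0 1 : ↥(chevG2.group K)) : GL chevG2.Idx K) with hv0
  have hv1 : v0 ∈ twistedG2 K (3 ^ m) := wordV_mem_G1 hK T hρR hf 0 0 1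
  have hvF : v0 ∈ T.F := wordV_mem_F hK T hρR hf 0 0 1
  have hvV : v0 ∈ chevG2.negUnipotent K := wordV_mem_V hK T hρR hf 0 0 1
  have hvne : v0 ≠ 1 := by rw [hv0, coe_wordV_one]; exact xg_mul_ne_one_neg
  obtain ⟨u₁, h1, n, hn, u₂, h2, e⟩ := X.nf_exists hvF.1
  obtain ⟨f1, f2, f3⟩ := T.nf_fixed h1 hn h2 (e ▸ hvF)
  have g1 := U_inf_F_le hK T hρR hf ⟨h1, f1⟩
  have g2 := U_inf_F_le hK T hρR hf ⟨Um_le_U n h2, f3⟩
  have gn : n ∈ twistedG2 K (3 ^ m) := by
    have : n = u₁⁻¹ * v0 * u₂⁻¹ := by rw [e]; group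
    rw [this]
    exact mul_mem (mul_mem (inv_mem g1) hv1) (inv_mem g2)
  have hH : n ∉ chevG2.diagonalSubgroup K := by
    intro hH
    apply hvne
    have : v0 ∈ chevG2.borelSubgroup K ⊓ chevG2.negUnipotent K := by
      refine ⟨?_, hvV⟩
      rw [e]
      exact mul_mem (mul_mem (Base.U_le_B h1) (Base.H_le_B hH)) (Base.U_le_B (Um_le_U n h2))
    rwa [X.hB.B_inf_V X.hT.toTabs, Subgroup.mem_bot] at this
  have S : STab chevG2 rhoG2 T.toFixCore.ρR [wG2] orbsG2 := by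
    show STab chevG2 rhoG2 T.ρR [wG2] orbsG2
    rw [hρR]; exact sTabG2
  obtain ⟨h, hh, e'⟩ := exists_eq_mul_nW_of_long T.toFixCore S Cfsg.Agent.Lib.Helper36.checksG2 isLong_wG2 hn f2 hH
  exact ⟨n, gn, h, hh, e'⟩

/-- the `FixBN` structure of `²G₂`. -/
noncomputable def fixBN : FixBN (bnData_of_mem K memG2) :=
  FixBN.ofSTab T.toFixCore (ρ := rhoG2) (orbs := orbsG2) (chain := orbsG2)
    (by show STab chevG2 rhoG2 T.ρR orbsG2 orbsG2; rw [hρR]; exact sTabG2)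
    Cfsg.Agent.Lib.Helper36.checksG2 (twistedG2 K (3 ^ m)) (G1_le_F hK T hρR hf)
    ((G1_le_F hK T hρR hf).trans T.F_le)
    (fun _ => (exists_sO hK T hρR hf).choose)
    (fun _ _ => (exists_sO hK T hρR hf).choose_spec.1)
    (fun O hO => by
      rw [List.mem_singleton.mp hO]
      exact (exists_sO hK T hρR hf).choose_spec.2)
    (fun O hO u hu hF => by
      refine U_inf_F_le hK T hρR hf ⟨?_, hF⟩
      have : (bnData_of_mem K memG2).hB.UmW O ≤ chevG2.posUnipotent K := by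
        unfold Base.UmW
        rw [Subgroup.closure_le]
        rintro g ⟨r, t, hr, -, rfl⟩
        exact (bnData_of_mem K memG2).hB.xg_mem_pos hr t
      exact this hu)
    (fun O hO => by
      rw [List.mem_singleton.mp hO]
      refine ⟨_, ?_, wordU_mem_F hK T hρR hf 0 0 1, by rw [coe_wordU_one]; exact xg_mul_ne_one_pos⟩
      have : chevG2.posUnipotent K ≤ (bnData_of_mem K memG2).hB.UmW wG2 := by
        rw [(bnData_of_mem K memG2).hB.posUnipotent_eq]
        unfold Base.UmW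
        apply Subgroup.closure_mono
        rintro g ⟨r, t, hr, rfl⟩
        exact ⟨r, t, hr, isLong_wG2.pos r hr, rfl⟩
      exact this (wordU_mem_U hK T hρR hf 0 0 1))

theorem fixBN_G1 : (fixBN hK T hρR hf).G1 = twistedG2 K (3 ^ m) := rfl

theorem fixBN_F : (fixBN hK T hρR hf).F = T.F := rfl

end Cfsg.Agent.Lib.Lead.Ree
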