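import Cfsg.Agent.Lib.Lead.ReeThree

set_option autoImplicit false

/-!
# The multiplication law of the Sylow 3-subgroup of `²G₂(q)`
-/

namespace Cfsg.Agent.Lib.Lead.ReeWord.Sys2

variable {G K : Type*} [Group G] [Field K] (S : Sys2 G K)

lemma f_cube (x : K) : S.f ((S.f x) ^ 3) = x := by
  rw [map_pow, ← S.hF, S.hFf]

/-- the multiplication law -/
theorem word_mul (t u v t' u' v' : K) : S.word t u v * S.word t' u' v' =
    S.word (t + t') (u + u' - t * (S.f t') ^ 3)
      (v + v' - t' * u + t * t' * (S.f t') ^ 3 - t ^ 2 * (S.f t') ^ 3) := by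
  rw [S.word_eq_can, S.word_eq_can, S.word_eq_can, S.can_mul]
  have h3 := S.three
  have hc := S.f_cube t'
  apply S.can_congr
  · rw [map_add]
  · rfl
  · simp only [map_add, map_sub, map_mul, hc]
    ring
  · simp only [map_add, map_sub, map_mul, map_pow, hc]
    linear_combination (S.f t' * S.f u - S.f t * S.f t' * t') * h3
  · ring
  · ring

end Cfsg.Agent.Lib.Lead.ReeWord.Sys2

namespace Cfsg.Agent.Lib.Lead.Ree

open Cfsg.Lie Matrix Cfsg.Agent.Lib.Helper6 Cfsg.Agent.Lib.Helper18 Cfsg.Agent.Lib.Lead.ChevSpecial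
  Cfsg.Agent.Lib.Lead.FixTwist Cfsg.Agent.Lib.Helper17

variable {K : Type*} [Field K] [Fintype K] {m : ℕ} (hK : Fintype.card K = 3 ^ (2 * m + 1))
  (T : STwist (bnData_of_mem K memG2))
  (hρR : T.ρR = rhoRG2) (hf : ∀ r t, T.f r t = t ^ (3 ^ (m + kG2 r))) [CharP K 3] [Fact (Nat.Prime 3)]

theorem sysU2_f (t : K) : (sysU2 hK T hρR hf).f t = t ^ 3 ^ m := by
  show iterateFrobeniusEquiv K 3 m t = _
  rw [iterateFrobeniusEquiv_def]

/-- the multiplication law of `U` -/
theorem Wd_mul (t u v t' u' v' : K) : Wd hK T hρR hf t u v * Wd hK T hρR hf t' u' v' =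
    Wd hK T hρR hf (t + t') (u + u' - t * t' ^ 3 ^ (m + 1))
      (v + v' - t' * u + t * t' * t' ^ 3 ^ (m + 1) - t ^ 2 * t' ^ 3 ^ (m + 1)) := by
  have h := congrArg (fun g : ↥(chevG2.group K) => (g : GL chevG2.Idx K))
    ((sysU2 hK T hρR hf).word_mul t u v t' u' v')
  have e : ((sysU2 hK T hρR hf).f t') ^ 3 = t' ^ 3 ^ (m + 1) := by
    rw [sysU2_f, ← pow_mul, ← pow_succ]
  rw [e] at h
  exact h

theorem Wd_inj {t u v t' u' v' : K} (h : Wd hK T hρR hf t u v = Wd hK T hρR hf t' u' v') :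
    t = t' ∧ u = u' ∧ v = v' := by
  have h1 : (sysU hK T hρR hf).word t u v = (sysU hK T hρR hf).word t' u' v' := Subtype.ext h
  exact (sysU hK T hρR hf).word_injective (huniqU hK T hρR hf) h1

end Cfsg.Agent.Lib.Lead.Ree
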