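import Cfsg.Agent.Lib.Helper18.WordChk
import Cfsg.Agent.Lib.Lead.ReeMul2

set_option autoImplicit false

/-!
# The rank one subgroup `⟨x_{a+b}(u^θ) x_{3a+b}(u), x_{-a-b}, x_{-3a-b}⟩` of `²G₂(q)`: relations
-/

namespace Cfsg.Agent.Lib.Lead.Ree

open Cfsg.Lie Matrix Cfsg.Agent.Lib.Helper6 Cfsg.Agent.Lib.Helper18 Cfsg.Agent.Lib.Lead.ChevSpecial
  Cfsg.Agent.Lib.Lead.FixTwist Cfsg.Agent.Lib.Helper17 Cfsg.Agent.Lib.Helper36

def nu0W : List (ℕ × Poly) :=
  [(8,[⟨2,0,0⟩]),(3,[⟨3,0,0⟩]),(8,[⟨2,0,0⟩]),(10,[⟨2,0,0⟩]),(1,[⟨3,0,0⟩]),(10,[⟨2,0,0⟩])]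

theorem nu0_chk1 : wordChk 3 fastG2 (nu0W ++ [(8,[⟨2,1,0⟩]),(10,[⟨2,0,1⟩])])
    ([(3,[⟨3,1,0⟩]),(1,[⟨3,0,1⟩])] ++ nu0W) = true := by decide +kernel

theorem nu0_chk2 : wordChk 3 fastG2 (nu0W ++ nu0W) [] = true := by decide +kernel

variable {K : Type*} [Field K]

/-- the Weyl element of the rank one subgroup -/
noncomputable def nu0 (K : Type*) [Field K] : GL chevG2.Idx K :=
  (bnData_of_mem K memG2).hB.ng 8 1 * (bnData_of_mem K memG2).hB.ng 10 1

theorem nu0_eq_wg (t u : K) : nu0 K = (bnData_of_mem K memG2).hB.wg (nu0W.map fun x => (x.1, pval t u x.2)) := by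
  have i2 : ival 2 = 1 := by decide
  have i3 : ival 3 = -1 := by decide
  simp only [nu0, nu0W, Base.wg, Base.ng, List.map_cons, List.map_nil, List.prod_cons, List.prod_nil, pval_single, i2, i3,
    pow_zero, mul_one, Int.cast_one, Int.cast_neg, inv_one]
  rw [show chevG2.neg 8 = 3 from rfl, show chevG2.neg 10 = 1 from rfl]
  simp only [mul_assoc]

theorem nu0_conj [CharP K 3] (t u : K) : nu0 K * ((bnData_of_mem K memG2).hB.xg 8 t * (bnData_of_mem K memG2).hB.xg 10 u) =
    (bnData_of_mem K memG2).hB.xg 3 (-t) * (bnData_of_mem K memG2).hB.xg 1 (-u) * nu0 K := by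
  have h := wg_eq_of_check (bnData_of_mem K memG2).hB 3 Cfsg.Agent.Lib.Helper36.agreeG2 _ _ (by decide) (by decide)
    nu0_chk1 t u
  have i2 : ival 2 = 1 := by decide
  have i3 : ival 3 = -1 := by decide
  rw [List.map_append, List.map_append] at h
  simp only [Base.wg, List.map_append, List.prod_append] at h
  have e := nu0_eq_wg t u
  simp only [Base.wg] at e
  rw [← e] at h
  simpa [pval_single, i2, i3] using h

theorem nu0_sq [CharP K 3] : nu0 K * nu0 K = 1 := by
  have h := wg_eq_of_check (bnData_of_mem K memG2).hB 3 Cfsg.Agent.Lib.Helper36.agreeG2 _ _ (by decide) (by decide)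
    nu0_chk2 (0 : K) 0
  rw [List.map_append] at h
  simp only [Base.wg, List.map_append, List.prod_append] at h
  have e := nu0_eq_wg (0 : K) 0
  simp only [Base.wg] at e
  rw [← e] at h
  simpa using h


theorem pairing_rel : ∀ s : Fin 12, chevG2.pairing 8 s = chevG2.pairing 7 s + 3 * chevG2.pairing 6 s ∧
    chevG2.pairing 10 s = chevG2.pairing 7 s + chevG2.pairing 6 s := by decide

theorem hg_8_10 (x y : Kˣ) : (bnData_of_mem K memG2).hB.hg 8 (x : K) * (bnData_of_mem K memG2).hB.hg 10 (y : K) =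
    (bnData_of_mem K memG2).hB.hHom (zz (x * y) (x ^ 3 * y)) := by
  rw [hHom_zz]
  apply Units.ext
  rw [Units.val_mul, Units.val_mul, Base.coe_hg, Base.coe_hg, Base.coe_hg, Base.coe_hg,
    (bnData_of_mem K memG2).hB.h_diag 8 (by decide) _ x.ne_zero, (bnData_of_mem K memG2).hB.h_diag 10 (by decide) _ y.ne_zero,
    (bnData_of_mem K memG2).hB.h_diag 7 (by decide) _ (x * y).ne_zero,
    (bnData_of_mem K memG2).hB.h_diag 6 (by decide) _ (x ^ 3 * y).ne_zero,
    Matrix.diagonal_mul_diagonal, Matrix.diagonal_mul_diagonal]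
  congr 1
  funext i
  rcases i with i | s
  · simp
  · simp only [Sum.elim_inr]
    obtain ⟨h1, h2⟩ := pairing_rel s
    rw [h1, h2]
    simp only [Units.val_mul, Units.val_pow_eq_pow_val]
    rw [mul_zpow, mul_zpow, zpow_add₀ x.ne_zero, zpow_add₀ y.ne_zero, ← zpow_natCast, ← _root_.zpow_mul]
    push_cast
    ring

theorem comm_8_10 (t u : K) : Commute ((bnData_of_mem K memG2).hB.xg 8 t) ((bnData_of_mem K memG2).hB.xg 10 u) :=
  commute_xg _ (by decide) (by decide) (by decide) (by decide) (by rw [show chevG2.commTerms 8 10 = [] by decide +kernel]; simp) t u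
theorem comm_8_1 (t u : K) : Commute ((bnData_of_mem K memG2).hB.xg 8 t) ((bnData_of_mem K memG2).hB.xg 1 u) :=
  commute_xg _ (by decide) (by decide) (by decide) (by decide) (by rw [show chevG2.commTerms 8 1 = [] by decide +kernel]; simp) t u
theorem comm_3_10 (t u : K) : Commute ((bnData_of_mem K memG2).hB.xg 3 t) ((bnData_of_mem K memG2).hB.xg 10 u) :=
  commute_xg _ (by decide) (by decide) (by decide) (by decide) (by rw [show chevG2.commTerms 3 10 = [] by decide +kernel]; simp) t u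
theorem comm_3_1 (t u : K) : Commute ((bnData_of_mem K memG2).hB.xg 3 t) ((bnData_of_mem K memG2).hB.xg 1 u) :=
  commute_xg _ (by decide) (by decide) (by decide) (by decide) (by rw [show chevG2.commTerms 3 1 = [] by decide +kernel]; simp) t u

theorem comm_ng (s t : K) : Commute ((bnData_of_mem K memG2).hB.ng 8 s) ((bnData_of_mem K memG2).hB.ng 10 t) := by
  unfold Base.ng
  rw [show chevG2.neg 8 = 3 from rfl, show chevG2.neg 10 = 1 from rfl]
  exact Commute.mul_left (Commute.mul_left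
    (Commute.mul_right (Commute.mul_right (comm_8_10 _ _) (comm_8_1 _ _)) (comm_8_10 _ _))
    (Commute.mul_right (Commute.mul_right (comm_3_10 _ _) (comm_3_1 _ _)) (comm_3_10 _ _)))
    (Commute.mul_right (Commute.mul_right (comm_8_10 _ _) (comm_8_1 _ _)) (comm_8_10 _ _))

theorem comm_xg8_ng (s t : K) : Commute ((bnData_of_mem K memG2).hB.xg 8 s) ((bnData_of_mem K memG2).hB.ng 10 t) := by
  unfold Base.ng
  rw [show chevG2.neg 10 = 1 from rfl]
  exact Commute.mul_right (Commute.mul_right (comm_8_10 _ _) (comm_8_1 _ _)) (comm_8_10 _ _)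

theorem comm_ng_xg10 (s t : K) : Commute ((bnData_of_mem K memG2).hB.ng 8 s) ((bnData_of_mem K memG2).hB.xg 10 t) := by
  unfold Base.ng
  rw [show chevG2.neg 8 = 3 from rfl]
  exact Commute.mul_left (Commute.mul_left (comm_8_10 _ _) (comm_3_10 _ _)) (comm_8_10 _ _)

variable [Fintype K] {m : ℕ} (hK : Fintype.card K = 3 ^ (2 * m + 1))

/-- the torus of the rank one subgroup -/
noncomputable def eta (K : Type*) [Field K] (m : ℕ) (t : Kˣ) : GL chevG2.Idx K := hR K m (t ^ (3 ^ (m + 1) + 1))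

include hK in
theorem eta_eq (t : Kˣ) : (bnData_of_mem K memG2).hB.hg 8 ((t : K) ^ 3 ^ m) * (bnData_of_mem K memG2).hB.hg 10 (t : K) =
    eta K m t := by
  have h := hg_8_10 (t ^ 3 ^ m) t
  rw [Units.val_pow_eq_pow_val] at h
  rw [h, eta, hR_apply]
  congr 2
  · rw [← pow_mul, add_mul, one_mul, ← pow_add, show m + 1 + m = 2 * m + 1 by ring, pow_add, units_pow_card hK, mul_comm]
  · rw [← pow_mul, pow_succ t (3 ^ (m + 1)), pow_succ 3 m]

include hK in
theorem nu_eq (t : Kˣ) : (bnData_of_mem K memG2).hB.ng 8 ((t : K) ^ 3 ^ m) * (bnData_of_mem K memG2).hB.ng 10 (t : K) =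
    eta K m t * nu0 K := by
  rw [← eta_eq hK, nu0, Base.ng_eq_hg_mul _ 8, Base.ng_eq_hg_mul _ 10]
  have hc : Commute ((bnData_of_mem K memG2).hB.ng 8 1) ((bnData_of_mem K memG2).hB.hg 10 (t : K)) := by
    unfold Base.hg
    exact Commute.mul_right (comm_ng _ _) (comm_ng _ _)
  calc _ = (bnData_of_mem K memG2).hB.hg 8 ((t : K) ^ 3 ^ m) * ((bnData_of_mem K memG2).hB.ng 8 1 *
        (bnData_of_mem K memG2).hB.hg 10 (t : K)) * (bnData_of_mem K memG2).hB.ng 10 1 := by group
    _ = _ := by rw [hc.eq]; group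

end Cfsg.Agent.Lib.Lead.Ree
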