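import Cfsg.Agent.Lib.Lead.ReeCent1

set_option autoImplicit false

/-!
# The rank one subgroup of `²G₂(q)`: the hypotheses of the recognition theorem
-/

namespace Cfsg.Agent.Lib.Lead.Ree

open Cfsg.Lie Matrix Cfsg.Agent.Lib.Helper6 Cfsg.Agent.Lib.Helper18 Cfsg.Agent.Lib.Lead.ChevSpecial
  Cfsg.Agent.Lib.Lead.FixTwist Cfsg.Agent.Lib.Helper17 Cfsg.Agent.Lib.Helper36

variable {K : Type*} [Field K] [Fintype K] {m : ℕ} (hK : Fintype.card K = 3 ^ (2 * m + 1))
  (T : STwist (bnData_of_mem K memG2))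
  (hρR : T.ρR = rhoRG2) (hf : ∀ r t, T.f r t = t ^ (3 ^ (m + kG2 r))) [CharP K 3] [Fact (Nat.Prime 3)]

/-- the root subgroup of the rank one group -/
noncomputable def bet (x : K) : GL chevG2.Idx K := Wd hK T hρR hf 0 x 0

theorem bet_eq (x : K) : bet hK T hρR hf x =
    (bnData_of_mem K memG2).hB.xg 8 (x ^ 3 ^ m) * (bnData_of_mem K memG2).hB.xg 10 x := by
  have h := congrArg (fun g : ↥(chevG2.group K) => (g : GL chevG2.Idx K)) ((sysU2 hK T hρR hf).word_zero x 0)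
  have e : (sysU2 hK T hρR hf).f x = x ^ 3 ^ m := sysU2_f hK T hρR hf x
  rw [e, map_zero] at h
  refine h.trans ?_
  show (bnData_of_mem K memG2).hB.xg 8 (x ^ 3 ^ m) * (bnData_of_mem K memG2).hB.xg 9 0 *
    (bnData_of_mem K memG2).hB.xg 10 x * (bnData_of_mem K memG2).hB.xg 11 0 = _
  rw [Base.xg_zero, Base.xg_zero, mul_one, mul_one]

/-- the opposite root subgroup -/
noncomputable def betV (K : Type*) [Field K] (m : ℕ) (x : K) : GL chevG2.Idx K :=
  (bnData_of_mem K memG2).hB.xg 3 (-(x ^ 3 ^ m)) * (bnData_of_mem K memG2).hB.xg 1 (-x)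

theorem betV_eq (x : K) : betV K m x = (((sysV hK T hρR hf).word 0 x 0 : ↥(chevG2.group K)) : GL chevG2.Idx K) := by
  apply Units.ext
  rw [coe_wordV]
  have h0 : (0 : K) ^ 3 ^ m = 0 := zero_pow (by positivity)
  simp only [betV, reeWordV, reeWordU, ChevalleyDatum.negWord, ChevalleyDatum.wordMat, List.map_cons, List.map_nil,
    List.prod_cons, List.prod_nil, g2a, g2b, g2ab, g2aab, g2aaab, g2aaabb, h0, zero_pow (Nat.succ_ne_zero _), zero_add,
    neg_zero, add_zero, Units.val_mul, Base.coe_xg, mul_one]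
  rw [show chevG2.negIdx.getD 7 0 = 4 from rfl, show chevG2.negIdx.getD 6 0 = 5 from rfl,
    show chevG2.negIdx.getD 8 0 = 3 from rfl, show chevG2.negIdx.getD 9 0 = 2 from rfl,
    show chevG2.negIdx.getD 10 0 = 1 from rfl, show chevG2.negIdx.getD 11 0 = 0 from rfl]
  simp only [(bnData_of_mem K memG2).hB.x_zero, one_mul, mul_one]

include hK T hρR hf in
theorem betV_mem_G1 (x : K) : betV K m x ∈ twistedG2 K (3 ^ m) := by
  rw [betV_eq hK T hρR hf]; exact wordV_mem_G1 hK T hρR hf _ _ _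

include hK T hρR hf in
theorem betV_mem_V (x : K) : betV K m x ∈ chevG2.negUnipotent K := by
  rw [betV_eq hK T hρR hf]; exact wordV_mem_V hK T hρR hf _ _ _

theorem bet_mem_G1 (x : K) : bet hK T hρR hf x ∈ twistedG2 K (3 ^ m) := Wd_mem_G1 hK T hρR hf _ _ _

theorem bet_mem_U (x : K) : bet hK T hρR hf x ∈ chevG2.posUnipotent K := (Wd_mem hK T hρR hf _ _ _).1

theorem bet_add (x y : K) : bet hK T hρR hf (x + y) = bet hK T hρR hf x * bet hK T hρR hf y := by
  unfold bet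
  rw [Wd_zero_mul, add_zero]

theorem bet_inj : Function.Injective (bet hK T hρR hf) := fun _ _ h => (Wd_inj hK T hρR hf h).2.1

theorem bet_zero : bet hK T hρR hf 0 = 1 := by
  have := bet_add hK T hρR hf 0 0
  rw [add_zero] at this
  exact (mul_eq_left.mp this.symm)

theorem nu0_bet (x : K) : nu0 K * bet hK T hρR hf x * (nu0 K)⁻¹ = betV K m x := by
  rw [bet_eq, nu0_conj, mul_inv_cancel_right, betV]

/-- `n(t) = β(t) β⁻(t⁻¹) β(t)` -/
theorem nu_eq_bet (t : Kˣ) : eta K m t * nu0 K =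
    bet hK T hρR hf t * betV K m ((t⁻¹ : Kˣ) : K) * bet hK T hρR hf t := by
  rw [← nu_eq hK, bet_eq, betV, Base.ng, Base.ng, show chevG2.neg 8 = 3 from rfl, show chevG2.neg 10 = 1 from rfl,
    Units.val_inv_eq_inv_val, inv_pow]
  have c1 := (comm_8_10 ((t : K) ^ 3 ^ m) (t : K)).eq
  have c2 := (comm_3_10 (-((t : K) ^ 3 ^ m)⁻¹) (t : K)).eq
  have c3 := (comm_8_1 ((t : K) ^ 3 ^ m) (-(t : K)⁻¹)).eq
  generalize (bnData_of_mem K memG2).hB.xg 8 ((t : K) ^ 3 ^ m) = A at *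
  generalize (bnData_of_mem K memG2).hB.xg 10 (t : K) = B at *
  generalize (bnData_of_mem K memG2).hB.xg 3 (-((t : K) ^ 3 ^ m)⁻¹) = C at *
  generalize (bnData_of_mem K memG2).hB.xg 1 (-(t : K)⁻¹) = E at *
  calc A * C * A * (B * E * B) = A * C * (A * B) * E * B := by group
    _ = A * (C * B) * (A * E) * B := by rw [c1]; group
    _ = A * B * C * E * (A * B) := by rw [c2, c3]; group
    _ = _ := by group


omit [Fintype K] [CharP K 3] [Fact (Nat.Prime 3)] in
theorem eta_mul (s t : Kˣ) : eta K m (s * t) = eta K m s * eta K m t := by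
  unfold eta
  rw [mul_pow, map_mul]

omit [Fintype K] [CharP K 3] [Fact (Nat.Prime 3)] in
theorem eta_one : eta K m 1 = 1 := by
  unfold eta
  rw [one_pow, map_one]

omit [Fintype K] [CharP K 3] [Fact (Nat.Prime 3)] in
theorem eta_neg_one : eta K m (-1) = 1 := by
  unfold eta
  have : Even (3 ^ (m + 1) + 1) := Odd.add_odd (Odd.pow (by decide)) (by decide)
  rw [this.neg_one_pow, map_one]

omit [Fintype K] [CharP K 3] [Fact (Nat.Prime 3)] in
theorem eta_mem_H (t : Kˣ) : eta K m t ∈ chevG2.diagonalSubgroup K := hR_mem_H _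

include hK T hρR hf in
theorem eta_mem_G1 (t : Kˣ) : eta K m t ∈ twistedG2 K (3 ^ m) := hR_mem_G1 hK T hρR hf _

include hK in
omit [CharP K 3] [Fact (Nat.Prime 3)] in
theorem ch3_eta (t : Kˣ) : ch3 m (t ^ (3 ^ (m + 1) + 1)) = t ^ 2 := by
  unfold ch3
  have h := pow_pow_theta hK t
  rw [← pow_mul, add_mul, one_mul, pow_add, pow_mul, h, pow_succ t (3 ^ (m + 1)), mul_inv]
  have : t ^ 3 = t ^ 2 * t := pow_succ t 2
  rw [this]
  group

theorem eta_bet (t : Kˣ) (x : K) : eta K m t * bet hK T hρR hf x * (eta K m t)⁻¹ = bet hK T hρR hf ((t : K) ^ 2 * x) := by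
  unfold eta bet
  rw [conj_Wd, mul_zero, mul_zero, ch3_eta hK, Units.val_pow_eq_pow_val]

include hK in
omit [CharP K 3] [Fact (Nat.Prime 3)] in
theorem eta_ker (t : Kˣ) (h : eta K m t = 1) : t = 1 ∨ t = -1 := by
  unfold eta at h
  have h1 : t ^ (3 ^ (m + 1) + 1) = 1 := hR_injective (by rw [h, map_one])
  have h2 := ch3_eta hK t
  rw [h1] at h2
  have h3 : t ^ 2 = 1 := by rw [← h2]; simp [ch3]
  have h4 : ((t : K) - 1) * ((t : K) + 1) = 0 := by
    have := congrArg (fun u : Kˣ => (u : K)) h3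
    simp only [Units.val_pow_eq_pow_val, Units.val_one] at this
    linear_combination this
  rcases mul_eq_zero.mp h4 with h5 | h5
  · left; exact Units.ext (by rw [Units.val_one]; linear_combination h5)
  · right; exact Units.ext (by rw [Units.val_neg, Units.val_one]; linear_combination h5)

include hK T hρR hf in
theorem nu0_mem_G1 : nu0 K ∈ twistedG2 K (3 ^ m) := by
  have h := nu_eq_bet hK T hρR hf 1
  rw [eta_one, one_mul] at h
  rw [h]
  exact mul_mem (mul_mem (bet_mem_G1 hK T hρR hf _) (betV_mem_G1 hK T hρR hf _)) (bet_mem_G1 hK T hρR hf _)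

omit [Fintype K] [CharP K 3] [Fact (Nat.Prime 3)] in
theorem nu0_mem_N : nu0 K ∈ chevG2.monomialSubgroup K :=
  mul_mem ((bnData_of_mem K memG2).hB.ng_one_mem (by decide)) ((bnData_of_mem K memG2).hB.ng_one_mem (by decide))

include hK T hρR hf in
theorem nu0_not_mem_B : nu0 K ∉ chevG2.borelSubgroup K := by
  intro hB
  have h1 : betV K m 1 ∈ chevG2.posUnipotent K := by
    rw [← nu0_bet hK T hρR hf]
    exact B_conj_U hB (bet_mem_U hK T hρR hf 1)
  have h2 : betV K m 1 ∈ chevG2.posUnipotent K ⊓ chevG2.negUnipotent K := ⟨h1, betV_mem_V hK T hρR hf 1⟩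
  rw [(bnData_of_mem K memG2).hB.U_inf_V (bnData_of_mem K memG2).hT.toTabs, Subgroup.mem_bot,
    ← nu0_bet hK T hρR hf, conj_eq_one_iff, ← bet_zero hK T hρR hf] at h2
  exact one_ne_zero (bet_inj hK T hρR hf h2)

include hK T hρR hf in
theorem nu0_eq : ∃ h ∈ chevG2.diagonalSubgroup K, nu0 K = h * (bnData_of_mem K memG2).hB.nW wG2 := by
  rcases N1_cases hK T hρR hf nu0_mem_N (nu0_mem_G1 hK T hρR hf) with h | h
  · exact absurd (Base.H_le_B h) (nu0_not_mem_B hK T hρR hf)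
  · exact h

include hK T hρR hf in
theorem nu0_conj_H {h : GL chevG2.Idx K} (hh : h ∈ chevG2.diagonalSubgroup K) : nu0 K * h * (nu0 K)⁻¹ = h⁻¹ := by
  obtain ⟨h0, hh0, e⟩ := nu0_eq hK T hρR hf
  have h1 := nW_conj_H_inv memG2 (bnData_of_mem K memG2).hB (bnData_of_mem K memG2).hT.tab isLong_wG2.lt wAct_wG2
    neg_negG2 hh
  rw [e]
  calc h0 * (bnData_of_mem K memG2).hB.nW wG2 * h * (h0 * (bnData_of_mem K memG2).hB.nW wG2)⁻¹
      = h0 * ((bnData_of_mem K memG2).hB.nW wG2 * h * ((bnData_of_mem K memG2).hB.nW wG2)⁻¹) * h0⁻¹ := by group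
    _ = h0 * h⁻¹ * h0⁻¹ := by rw [h1]
    _ = h⁻¹ := by
        rw [(bnData_of_mem K memG2).hB.H_comm hh0 (inv_mem hh), mul_inv_cancel_right]

theorem bet_neg (x : K) : bet hK T hρR hf (-x) = (bet hK T hρR hf x)⁻¹ := by
  rw [eq_inv_iff_mul_eq_one, ← bet_add, neg_add_cancel, bet_zero]

/-- the rank one relation -/
theorem nu0_rel (x : Kˣ) : nu0 K * bet hK T hρR hf (x : K) * (nu0 K)⁻¹ =
    bet hK T hρR hf (-((x⁻¹ : Kˣ) : K)) * eta K m x⁻¹ * nu0 K * bet hK T hρR hf (-((x⁻¹ : Kˣ) : K)) := by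
  have h := nu_eq_bet hK T hρR hf x⁻¹
  rw [inv_inv] at h
  rw [nu0_bet, bet_neg, mul_assoc (bet hK T hρR hf _)⁻¹, h]
  group

theorem bet_eq_eta {x : K} {t : Kˣ} (h : bet hK T hρR hf x = eta K m t) : x = 0 := by
  have h1 : bet hK T hρR hf x ∈ chevG2.posUnipotent K ⊓ chevG2.diagonalSubgroup K :=
    ⟨bet_mem_U hK T hρR hf x, h ▸ eta_mem_H t⟩
  rw [(bnData_of_mem K memG2).hB.U_inf_H (bnData_of_mem K memG2).hT.toTabs, Subgroup.mem_bot,
    ← bet_zero hK T hρR hf] at h1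
  exact bet_inj hK T hρR hf h1

theorem nu0_ne (x : K) (t : Kˣ) : nu0 K ≠ bet hK T hρR hf x * eta K m t := by
  intro h
  apply nu0_not_mem_B hK T hρR hf
  rw [h]
  exact mul_mem (Base.U_le_B (bet_mem_U hK T hρR hf x)) (Base.H_le_B (eta_mem_H t))

end Cfsg.Agent.Lib.Lead.Ree
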