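import Cfsg.Agent.Lib.Lead.ReeCent2
import Cfsg.Agent.Lib.Lead.ReeAbs.RK1

set_option autoImplicit false

/-!
# The centralizer of the involution of `H` in `²G₂(q)` is `2 × PSL₂(q)`
-/

namespace Cfsg.Agent.Lib.Lead.Ree

open Cfsg.Lie Matrix Cfsg.Agent.Lib.Helper6 Cfsg.Agent.Lib.Helper18 Cfsg.Agent.Lib.Lead.ChevSpecial
  Cfsg.Agent.Lib.Lead.FixTwist Cfsg.Agent.Lib.Helper17 Cfsg.Agent.Lib.Helper36

section abstract

/-- a group with a central involution `a` and a subgroup `L` with `C = L ∪ aL`, `a ∉ L` -/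
theorem equiv_of_central_involution {C : Type*} [Group C] (a : C) (ha2 : a * a = 1)
    (hc : ∀ g, g * a = a * g) (L : Subgroup C) (haL : a ∉ L) (hcov : ∀ g, g ∈ L ∨ a * g ∈ L) :
    Nonempty (C ≃* Multiplicative (ZMod 2) × L) := by
  have h2 : a ^ 2 = 1 := by rw [pow_two, ha2]
  let f : Multiplicative (ZMod 2) →* C :=
    { toFun := fun i => a ^ (Multiplicative.toAdd i).val
      map_one' := by simp
      map_mul' := by
        intro x y
        have : ∀ x y : ZMod 2, a ^ (x + y).val = a ^ x.val * a ^ y.val := by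
          intro x y
          fin_cases x <;> fin_cases y
          · show a ^ 0 = a ^ 0 * a ^ 0
            simp
          · show a ^ 1 = a ^ 0 * a ^ 1
            simp
          · show a ^ 1 = a ^ 1 * a ^ 0
            simp
          · show a ^ 0 = a ^ 1 * a ^ 1
            simp [ha2]
        exact this _ _ }
  have hf : ∀ i : ZMod 2, f (Multiplicative.ofAdd i) = a ^ i.val := fun i => rfl
  let φ : Multiplicative (ZMod 2) × L →* C := f.noncommCoprod L.subtype (by
    intro i l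
    show Commute (a ^ _) _
    exact (Commute.pow_left (hc l).symm _))
  have hφ : ∀ (i : ZMod 2) (l : L), φ (Multiplicative.ofAdd i, l) = a ^ i.val * l := fun i l => rfl
  refine ⟨(MulEquiv.ofBijective φ ⟨?_, ?_⟩).symm⟩
  · rw [injective_iff_map_eq_one]
    rintro ⟨i, l⟩ h
    obtain ⟨i, rfl⟩ := Multiplicative.ofAdd.surjective i
    rw [hφ] at h
    fin_cases i
    · have h1 : (l : C) = 1 := by
        have : a ^ 0 * (l : C) = 1 := h
        simpa using this
      have h3 : l = 1 := Subtype.ext h1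
      rw [h3]; rfl
    · exfalso
      apply haL
      have h1 : a * (l : C) = 1 := by
        have : a ^ 1 * (l : C) = 1 := h
        simpa using this
      have h3 : (l : C) = a := by
        calc (l : C) = a * a * l := by rw [ha2, one_mul]
          _ = a := by rw [mul_assoc, h1, mul_one]
      rw [← h3]; exact l.2
  · intro g
    rcases hcov g with h | h
    · refine ⟨(Multiplicative.ofAdd 0, ⟨g, h⟩), ?_⟩
      rw [hφ]
      show a ^ 0 * g = g
      simp
    · refine ⟨(Multiplicative.ofAdd 1, ⟨a * g, h⟩), ?_⟩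
      rw [hφ]
      show a ^ (1 : ZMod 2).val * (a * g) = g
      rw [show (1 : ZMod 2).val = 1 from rfl, pow_one, ← mul_assoc, ha2, one_mul]

end abstract


variable {K : Type*} [Field K] [Fintype K] {m : ℕ} (hK : Fintype.card K = 3 ^ (2 * m + 1))
  (T : STwist (bnData_of_mem K memG2))
  (hρR : T.ρR = rhoRG2) (hf : ∀ r t, T.f r t = t ^ (3 ^ (m + kG2 r))) [CharP K 3] [Fact (Nat.Prime 3)]

/-- the rank one subgroup -/
noncomputable def LL : Subgroup (GL chevG2.Idx K) := Subgroup.closure (Set.range (bet hK T hρR hf) ∪ {nu0 K})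

include hK in
omit [CharP K 3] [Fact (Nat.Prime 3)] in
theorem card_mod4 : Fintype.card K % 4 = 3 := by
  obtain ⟨j, hj⟩ := exists_q m
  rw [hK, hj]; omega

theorem LL_rk1 : Nonempty (↥(LL hK T hρR hf) ≃* Matrix.ProjectiveSpecialLinearGroup (Fin 2) K) ∧
    (∀ g ∈ LL hK T hρR hf, (∃ x t, g = bet hK T hρR hf x * eta K m t) ∨
      ∃ x t y, g = bet hK T hρR hf x * eta K m t * nu0 K * bet hK T hρR hf y) := by
  classical
  exact Cfsg.Agent.Lib.Lead.ReeAbs.psl2_of_rank_one (card_mod4 hK) (bet hK T hρR hf) (eta K m) (nu0 K)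
    (bet_add hK T hρR hf) (bet_inj hK T hρR hf) eta_mul (eta_bet hK T hρR hf) nu0_sq
    (fun t => nu0_conj_H hK T hρR hf (eta_mem_H t)) (nu0_rel hK T hρR hf) eta_neg_one (eta_ker hK)
    (fun x t h => bet_eq_eta hK T hρR hf h) (nu0_ne hK T hρR hf)

theorem bet_mem_LL (x : K) : bet hK T hρR hf x ∈ LL hK T hρR hf := Subgroup.subset_closure (Or.inl ⟨x, rfl⟩)

theorem nu0_mem_LL : nu0 K ∈ LL hK T hρR hf := Subgroup.subset_closure (Or.inr rfl)

theorem eta_mem_LL (t : Kˣ) : eta K m t ∈ LL hK T hρR hf := by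
  have h := nu_eq_bet hK T hρR hf t
  rw [← nu0_bet hK T hρR hf] at h
  have e : eta K m t = bet hK T hρR hf t * (nu0 K * bet hK T hρR hf ((t⁻¹ : Kˣ) : K) * (nu0 K)⁻¹) *
      bet hK T hρR hf t * (nu0 K)⁻¹ := by rw [← h]; group
  rw [e]
  have hn := nu0_mem_LL hK T hρR hf
  exact mul_mem (mul_mem (mul_mem (bet_mem_LL hK T hρR hf _) (mul_mem (mul_mem hn (bet_mem_LL hK T hρR hf _))
    (inv_mem hn))) (bet_mem_LL hK T hρR hf _)) (inv_mem hn)

theorem LL_le_G1 : LL hK T hρR hf ≤ twistedG2 K (3 ^ m) := by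
  unfold LL
  rw [Subgroup.closure_le]
  rintro g (⟨x, rfl⟩ | rfl)
  · exact bet_mem_G1 hK T hρR hf x
  · exact nu0_mem_G1 hK T hρR hf

omit [Fintype K] [CharP K 3] [Fact (Nat.Prime 3)] in
theorem a0_sq : hR K m (-1) * hR K m (-1) = 1 := by
  rw [← map_mul]; simp

omit [Fintype K] [CharP K 3] [Fact (Nat.Prime 3)] in
theorem a0_inv : (hR K m (-1))⁻¹ = hR K m (-1) := inv_eq_of_mul_eq_one_left a0_sq

theorem a0_bet (x : K) : hR K m (-1) * bet hK T hρR hf x = bet hK T hρR hf x * hR K m (-1) := by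
  have h := conj_Wd hK T hρR hf (-1) 0 x 0
  rw [ch3_neg_one, mul_zero, mul_zero, Units.val_one, one_mul] at h
  exact mul_inv_eq_iff_eq_mul.mp h

include hK T hρR hf in
theorem a0_nu0 : hR K m (-1) * nu0 K = nu0 K * hR K m (-1) := by
  have h := nu0_conj_H hK T hρR hf (hR_mem_H (K := K) (m := m) (-1))
  rw [a0_inv] at h
  exact (mul_inv_eq_iff_eq_mul.mp h).symm

theorem LL_comm {g : GL chevG2.Idx K} (hg : g ∈ LL hK T hρR hf) : hR K m (-1) * g = g * hR K m (-1) := by
  have : LL hK T hρR hf ≤ Subgroup.centralizer {hR K m (-1)} := by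
    unfold LL
    rw [Subgroup.closure_le]
    rintro g (⟨x, rfl⟩ | rfl)
    · rw [SetLike.mem_coe, Subgroup.mem_centralizer_singleton_iff]
      exact (a0_bet hK T hρR hf x).symm
    · rw [SetLike.mem_coe, Subgroup.mem_centralizer_singleton_iff]
      exact (a0_nu0 hK T hρR hf).symm
  exact (Subgroup.mem_centralizer_singleton_iff.mp (this hg)).symm


include hK in
omit [Fact (Nat.Prime 3)] in
theorem pow_ne_neg_one (t : Kˣ) : t ^ (3 ^ (m + 1) + 1) ≠ -1 := by
  intro h
  have h2 := ch3_eta hK t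
  rw [h, ch3_neg_one] at h2
  have h3 : eta K m t = 1 := by
    have h4 : ((t : K) - 1) * ((t : K) + 1) = 0 := by
      have := congrArg (fun u : Kˣ => (u : K)) h2
      simp only [Units.val_pow_eq_pow_val, Units.val_one] at this
      linear_combination -this
    rcases mul_eq_zero.mp h4 with h5 | h5
    · have : t = 1 := Units.ext (by rw [Units.val_one]; linear_combination h5)
      rw [this, eta_one]
    · have : t = -1 := Units.ext (by rw [Units.val_neg, Units.val_one]; linear_combination h5)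
      rw [this, eta_neg_one]
  unfold eta at h3
  rw [h] at h3
  have h6 : (-1 : Kˣ) = 1 := hR_injective (K := K) (m := m) (by rw [h3, map_one])
  exact neg_one_ne_one h6

theorem a0_not_mem_LL : hR K m (-1) ∉ LL hK T hρR hf := by
  intro h
  rcases (LL_rk1 hK T hρR hf).2 _ h with ⟨x, t, e⟩ | ⟨x, t, y, e⟩
  · have h1 : bet hK T hρR hf x ∈ chevG2.posUnipotent K ⊓ chevG2.diagonalSubgroup K := by
      refine ⟨bet_mem_U hK T hρR hf x, ?_⟩
      have : bet hK T hρR hf x = hR K m (-1) * (eta K m t)⁻¹ := by rw [e]; group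
      rw [this]
      exact (chevG2.diagonalSubgroup K).mul_mem (hR_mem_H _) ((chevG2.diagonalSubgroup K).inv_mem (eta_mem_H t))
    rw [(bnData_of_mem K memG2).hB.U_inf_H (bnData_of_mem K memG2).hT.toTabs, Subgroup.mem_bot] at h1
    rw [h1, one_mul] at e
    exact pow_ne_neg_one hK t (hR_injective (K := K) (m := m) e).symm
  · apply nu0_not_mem_B hK T hρR hf
    have e2 : nu0 K = (eta K m t)⁻¹ * (bet hK T hρR hf x)⁻¹ * hR K m (-1) * (bet hK T hρR hf y)⁻¹ := by
      rw [e]; group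
    rw [e2]
    exact mul_mem (mul_mem (mul_mem (inv_mem (Base.H_le_B (eta_mem_H t)))
      (inv_mem (Base.U_le_B (bet_mem_U hK T hρR hf x)))) (Base.H_le_B (hR_mem_H _)))
      (inv_mem (Base.U_le_B (bet_mem_U hK T hρR hf y)))


include hK in
omit [CharP K 3] [Fact (Nat.Prime 3)] in
/-- every element of `H¹` is `η(t)` or `a η(t)` -/
theorem hR_cases (c : Kˣ) : ∃ t, hR K m c = eta K m t ∨ hR K m c = hR K m (-1) * eta K m t := by
  obtain ⟨j, hj⟩ := exists_q m
  have h1 : c ^ (4 * j + 2) = 1 := by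
    have := units_pow_card hK c
    rw [hj, show 4 * j + 3 = (4 * j + 2) + 1 by ring, pow_succ] at this
    exact mul_eq_right.mp this
  have h2 : c ^ (2 * j + 1) = 1 ∨ c ^ (2 * j + 1) = -1 := by
    have : ((c ^ (2 * j + 1) : Kˣ) : K) * ((c ^ (2 * j + 1) : Kˣ) : K) = 1 := by
      rw [← Units.val_mul, ← pow_add, show 2 * j + 1 + (2 * j + 1) = 4 * j + 2 by ring, h1, Units.val_one]
    rcases mul_self_eq_one_iff.mp this with h | h
    · exact Or.inl (Units.ext h)
    · exact Or.inr (Units.ext (by rw [h]; simp))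
  have h3 : c = c ^ (2 * j + 1) * ((c ^ j)⁻¹) ^ 2 := by
    rw [pow_succ, two_mul, pow_add, pow_two]
    rw [mul_comm _ c, mul_assoc]
    simp
  -- squares are values of `t ↦ t ^ (3 ^ (m+1) + 1)`
  have h4 : ((c ^ j)⁻¹) ^ 2 = (ch3 m (c ^ j)⁻¹) ^ (3 ^ (m + 1) + 1) := by
    rw [← ch3_eta hK]
    generalize (c ^ j)⁻¹ = d
    unfold ch3
    rw [mul_pow, inv_pow, ← pow_mul, ← pow_mul, mul_comm (3 ^ (m + 1) + 1)]
  refine ⟨ch3 m (c ^ j)⁻¹, ?_⟩
  unfold eta
  rw [← h4]
  rcases h2 with h | h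
  · left
    conv_lhs => rw [h3, h, one_mul]
  · right
    conv_lhs => rw [h3, h, map_mul]

/-- elements of `U¹` commuting with `a` -/
theorem U_comm {u : GL chevG2.Idx K} (hu : u ∈ chevG2.posUnipotent K) (hu1 : u ∈ twistedG2 K (3 ^ m))
    (hc : hR K m (-1) * u * (hR K m (-1))⁻¹ = u) : ∃ x, u = bet hK T hρR hf x := by
  obtain ⟨t, x, v, rfl⟩ := exists_Wd hK T hρR hf (g := u) ⟨hu, G1_le_F hK T hρR hf hu1⟩
  rw [conj_Wd, chB_neg_one] at hc
  obtain ⟨h1, -, h3⟩ := Wd_inj hK T hρR hf hc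
  have h0 : (3 : K) = 0 := three_eq_zero
  simp only [Units.val_neg, Units.val_one, neg_mul, one_mul] at h1 h3
  have ht : t = 0 := by linear_combination h1 + t * h0
  have hv : v = 0 := by linear_combination h3 + v * h0
  exact ⟨x, by rw [ht, hv]; rfl⟩


theorem hR_mem_cases (c : Kˣ) : hR K m c ∈ LL hK T hρR hf ∨ hR K m (-1) * hR K m c ∈ LL hK T hρR hf := by
  obtain ⟨t, h | h⟩ := hR_cases hK c
  · left; rw [h]; exact eta_mem_LL hK T hρR hf t
  · right; rw [h, ← mul_assoc, a0_sq, one_mul]; exact eta_mem_LL hK T hρR hf t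

/-- `C(a) = L ∪ aL` -/
theorem cover {g : GL chevG2.Idx K} (hg : g ∈ twistedG2 K (3 ^ m)) (hc : hR K m (-1) * g = g * hR K m (-1)) :
    g ∈ LL hK T hρR hf ∨ hR K m (-1) * g ∈ LL hK T hρR hf := by
  have hg' : g ∈ (fixBN hK T hρR hf).G1 := by rw [fixBN_G1]; exact hg
  obtain ⟨u₁, h1, g1, n, hn, gn, u₂, h2, g2, e⟩ := (fixBN hK T hρR hf).nf_G1 hg'
  rw [fixBN_G1] at g1 gn g2
  have h2' := Um_le_U n h2
  have hc' : hR K m (-1) * g * (hR K m (-1))⁻¹ = g := by rw [hc, mul_inv_cancel_right]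
  have haH : hR K m (-1) ∈ chevG2.diagonalSubgroup K := hR_mem_H _
  rcases N1_cases hK T hρR hf hn gn with hH | ⟨h, hh, rfl⟩
  · -- `g ∈ B`
    obtain ⟨c, rfl⟩ : ∃ c, hR K m c = n := by
      have : n ∈ (hR K m).range := by rw [range_hR hK T hρR hf]; exact ⟨hH, gn⟩
      exact this
    have hu : u₁ * (hR K m c * u₂ * (hR K m c)⁻¹) ∈ chevG2.posUnipotent K :=
      mul_mem h1 (B_conj_U (Base.H_le_B hH) h2')
    have hu1 : u₁ * (hR K m c * u₂ * (hR K m c)⁻¹) ∈ twistedG2 K (3 ^ m) :=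
      mul_mem g1 (mul_mem (mul_mem gn g2) (inv_mem gn))
    have e' : g = u₁ * (hR K m c * u₂ * (hR K m c)⁻¹) * hR K m c := by rw [e]; group
    have hcomm : hR K m (-1) * hR K m c = hR K m c * hR K m (-1) := by rw [← map_mul, ← map_mul, mul_comm]
    obtain ⟨x, hx⟩ := U_comm hK T hρR hf hu hu1 (by
      generalize u₁ * (hR K m c * u₂ * (hR K m c)⁻¹) = u at *
      rw [e'] at hc'
      have : hR K m (-1) * (u * hR K m c) * (hR K m (-1))⁻¹ =
          hR K m (-1) * u * (hR K m (-1))⁻¹ * hR K m c := by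
        have hcomm' : hR K m c * (hR K m (-1))⁻¹ = (hR K m (-1))⁻¹ * hR K m c := by
          rw [eq_inv_mul_iff_mul_eq, ← mul_assoc, hcomm, mul_inv_cancel_right]
        calc _ = hR K m (-1) * u * (hR K m c * (hR K m (-1))⁻¹) := by group
          _ = _ := by rw [hcomm']; group
      rw [this] at hc'
      exact mul_right_cancel hc')
    rw [e', hx]
    rcases hR_mem_cases hK T hρR hf c with h | h
    · left; exact mul_mem (bet_mem_LL hK T hρR hf x) h
    · right
      rw [← mul_assoc, a0_bet, mul_assoc]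
      exact mul_mem (bet_mem_LL hK T hρR hf x) h
  · -- the big cell
    obtain ⟨h0, hh0, e0⟩ := nu0_eq hK T hρR hf
    have hd : h * (bnData_of_mem K memG2).hB.nW wG2 = (h * h0⁻¹) * nu0 K := by rw [e0]; group
    have hdH : h * h0⁻¹ ∈ chevG2.diagonalSubgroup K := mul_mem hh (inv_mem hh0)
    have hdG : h * h0⁻¹ ∈ twistedG2 K (3 ^ m) := by
      have : h * h0⁻¹ = (h * (bnData_of_mem K memG2).hB.nW wG2) * (nu0 K)⁻¹ := by rw [hd]; group
      rw [this]
      exact mul_mem gn (inv_mem (nu0_mem_G1 hK T hρR hf))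
    obtain ⟨c, hcd⟩ : ∃ c, hR K m c = h * h0⁻¹ := by
      have : h * h0⁻¹ ∈ (hR K m).range := by rw [range_hR hK T hρR hf]; exact ⟨hdH, hdG⟩
      exact this
    have hcomm : hR K m (-1) * hR K m c = hR K m c * hR K m (-1) := by rw [← map_mul, ← map_mul, mul_comm]
    have hn' : hR K m (-1) * (h * (bnData_of_mem K memG2).hB.nW wG2) * (hR K m (-1))⁻¹ =
        h * (bnData_of_mem K memG2).hB.nW wG2 := by
      rw [hd, ← hcd, ← mul_assoc, hcomm, mul_assoc (hR K m c), a0_nu0 hK T hρR hf]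
      group
    set n := h * (bnData_of_mem K memG2).hB.nW wG2 with hndef
    have key : (hR K m (-1) * u₁ * (hR K m (-1))⁻¹)⁻¹ * u₁ =
        n * ((hR K m (-1) * u₂ * (hR K m (-1))⁻¹) * u₂⁻¹) * n⁻¹ := by
      have e3 : hR K m (-1) * u₁ * (hR K m (-1))⁻¹ * n * (hR K m (-1) * u₂ * (hR K m (-1))⁻¹) = u₁ * n * u₂ := by
        rw [← e]
        conv_rhs => rw [← hc', e]
        conv_lhs => rw [← hn']
        group
      generalize hR K m (-1) * u₁ * (hR K m (-1))⁻¹ = A at e3 ⊢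
      generalize hR K m (-1) * u₂ * (hR K m (-1))⁻¹ = B at e3 ⊢
      have e4 : u₁ = A * n * B * u₂⁻¹ * n⁻¹ := by rw [e3]; group
      calc A⁻¹ * u₁ = A⁻¹ * (A * n * B * u₂⁻¹ * n⁻¹) := by rw [← e4]
        _ = _ := by group
    have hU1 : hR K m (-1) * u₁ * (hR K m (-1))⁻¹ ∈ chevG2.posUnipotent K := B_conj_U (Base.H_le_B haH) h1
    have hU2 : hR K m (-1) * u₂ * (hR K m (-1))⁻¹ ∈ chevG2.posUnipotent K := B_conj_U (Base.H_le_B haH) h2'
    have hmem : (hR K m (-1) * u₁ * (hR K m (-1))⁻¹)⁻¹ * u₁ ∈ chevG2.posUnipotent K ⊓ chevG2.negUnipotent K := by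
      refine Subgroup.mem_inf.mpr ⟨(chevG2.posUnipotent K).mul_mem ((chevG2.posUnipotent K).inv_mem hU1) h1, ?_⟩
      rw [key]
      exact conj_U_mem_V hh (mul_mem hU2 (inv_mem h2'))
    rw [(bnData_of_mem K memG2).hB.U_inf_V (bnData_of_mem K memG2).hT.toTabs, Subgroup.mem_bot] at hmem
    have hc1 : hR K m (-1) * u₁ * (hR K m (-1))⁻¹ = u₁ := (inv_mul_eq_one.mp hmem)
    have hc2 : hR K m (-1) * u₂ * (hR K m (-1))⁻¹ = u₂ := by
      rw [hmem] at key
      have := conj_eq_one_iff.mp key.symm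
      exact mul_inv_eq_one.mp this
    obtain ⟨x, rfl⟩ := U_comm hK T hρR hf h1 g1 hc1
    obtain ⟨y, rfl⟩ := U_comm hK T hρR hf h2' g2 hc2
    rw [e, hd, ← hcd]
    rcases hR_mem_cases hK T hρR hf c with h | h
    · left
      exact mul_mem (mul_mem (bet_mem_LL hK T hρR hf x) (mul_mem h (nu0_mem_LL hK T hρR hf))) (bet_mem_LL hK T hρR hf y)
    · right
      have : hR K m (-1) * (bet hK T hρR hf x * (hR K m c * nu0 K) * bet hK T hρR hf y) =
          bet hK T hρR hf x * (hR K m (-1) * hR K m c * nu0 K) * bet hK T hρR hf y := by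
        rw [← mul_assoc, ← mul_assoc, a0_bet]
        group
      rw [this]
      exact mul_mem (mul_mem (bet_mem_LL hK T hρR hf x) (mul_mem h (nu0_mem_LL hK T hρR hf))) (bet_mem_LL hK T hρR hf y)


include hK T hρR hf in
/-- the involution of `H¹` -/
theorem eq_a0 {a : GL chevG2.Idx K} (haH : a ∈ chevG2.diagonalSubgroup K) (haG : a ∈ twistedG2 K (3 ^ m)) (ha1 : a ≠ 1)
    (ha2 : a * a = 1) : a = hR K m (-1) := by
  obtain ⟨c, rfl⟩ : ∃ c, hR K m c = a := by
    have : a ∈ (hR K m).range := by rw [range_hR hK T hρR hf]; exact ⟨haH, haG⟩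
    exact this
  have h1 : c * c = 1 := hR_injective (K := K) (m := m) (by rw [map_mul, ha2, map_one])
  have h4 : ((c : K) - 1) * ((c : K) + 1) = 0 := by
    have := congrArg (fun u : Kˣ => (u : K)) h1
    simp only [Units.val_mul, Units.val_one] at this
    linear_combination this
  rcases mul_eq_zero.mp h4 with h5 | h5
  · exfalso
    apply ha1
    have : c = 1 := Units.ext (by rw [Units.val_one]; linear_combination h5)
    rw [this, map_one]
  · have : c = -1 := Units.ext (by rw [Units.val_neg, Units.val_one]; linear_combination h5)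
    rw [this]

include hK T hρR hf in
/-- `C(a) ≅ 2 × PSL₂(q)` -/
theorem centA_equiv (a : ↥(twistedG2 K (3 ^ m))) (haH : (a : GL chevG2.Idx K) ∈ chevG2.diagonalSubgroup K) (ha1 : a ≠ 1)
    (ha2 : a * a = 1) :
    Nonempty (↥(Subgroup.centralizer ({a} : Set ↥(twistedG2 K (3 ^ m)))) ≃*
      Multiplicative (ZMod 2) × Matrix.ProjectiveSpecialLinearGroup (Fin 2) K) := by
  have ea : (a : GL chevG2.Idx K) = hR K m (-1) :=
    eq_a0 hK T hρR hf haH a.2 (fun h => ha1 (Subtype.ext h)) (congrArg Subtype.val ha2)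
  let C := Subgroup.centralizer ({a} : Set ↥(twistedG2 K (3 ^ m)))
  let ι : ↥C →* GL chevG2.Idx K := (twistedG2 K (3 ^ m)).subtype.comp C.subtype
  have hι : Function.Injective ι := fun x y h => Subtype.ext (Subtype.ext h)
  let L' : Subgroup ↥C := (LL hK T hρR hf).comap ι
  have haC : a ∈ C := Subgroup.mem_centralizer_singleton_iff.mpr rfl
  obtain ⟨e1⟩ := equiv_of_central_involution (⟨a, haC⟩ : ↥C) (Subtype.ext ha2)
    (fun g => Subtype.ext (Subgroup.mem_centralizer_singleton_iff.mp g.2)) L'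
    (by
      intro h
      have h' : ι ⟨a, haC⟩ ∈ LL hK T hρR hf := h
      have : ι ⟨a, haC⟩ = hR K m (-1) := ea
      rw [this] at h'
      exact a0_not_mem_LL hK T hρR hf h')
    (by
      intro g
      have hc : hR K m (-1) * ι g = ι g * hR K m (-1) := by
        rw [← ea]
        exact (congrArg Subtype.val (Subgroup.mem_centralizer_singleton_iff.mp g.2)).symm
      rcases cover hK T hρR hf (g := ι g) g.1.2 hc with h | h
      · exact Or.inl h
      · right
        show ι (⟨a, haC⟩ * g) ∈ LL hK T hρR hf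
        rw [map_mul]
        have : ι ⟨a, haC⟩ = hR K m (-1) := ea
        rw [this]
        exact h)
  have hmap : L'.map ι = LL hK T hρR hf := by
    rw [Subgroup.map_comap_eq, inf_eq_right]
    intro g hg
    have hg1 := LL_le_G1 hK T hρR hf hg
    have hgC : (⟨g, hg1⟩ : ↥(twistedG2 K (3 ^ m))) ∈ C := by
      rw [Subgroup.mem_centralizer_singleton_iff]
      apply Subtype.ext
      show g * (a : GL chevG2.Idx K) = a * g
      rw [ea]
      exact (LL_comm hK T hρR hf hg).symm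
    exact ⟨⟨⟨g, hg1⟩, hgC⟩, rfl⟩
  obtain ⟨e2⟩ := (LL_rk1 hK T hρR hf).1
  let e3 : ↥L' ≃* ↥(LL hK T hρR hf) := (L'.equivMapOfInjective ι hι).trans (MulEquiv.subgroupCongr hmap)
  exact ⟨e1.trans (MulEquiv.prodCongr (MulEquiv.refl _) (e3.trans e2))⟩

end Cfsg.Agent.Lib.Lead.Ree
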