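import Cfsg.Agent.Lib.Lead.ReeG2
import Cfsg.Agent.Lib.Helper17.ChevOrd
import Cfsg.Agent.Lib.Helper36.ChevAllG2
import Cfsg.Agent.Lib.Helper36.ChevCent
import Cfsg.Agent.Lib.Lead.FixBuild

set_option autoImplicit false

/-!
# `²G₂`: the fixed points in `U`, and `G¹ ≤ F`
-/

namespace Cfsg.Agent.Lib.Lead.Ree

open Cfsg.Lie Matrix Cfsg.Agent.Lib.Helper6 Cfsg.Agent.Lib.Helper18 Cfsg.Agent.Lib.Lead.ChevSpecial
  Cfsg.Agent.Lib.Lead.FixTwist Cfsg.Agent.Lib.Helper17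

variable {K : Type*} [Field K] [Fintype K] {m : ℕ} (hK : Fintype.card K = 3 ^ (2 * m + 1))
  (T : STwist (bnData_of_mem K memG2))
  (hρR : T.ρR = rhoRG2) (hf : ∀ r t, T.f r t = t ^ (3 ^ (m + kG2 r))) [CharP K 3] [Fact (Nat.Prime 3)]

theorem coe_wordU (t u v : K) :
    ((((sysU hK T hρR hf).word t u v : ↥(chevG2.group K)) : GL chevG2.Idx K) : Matrix chevG2.Idx chevG2.Idx K) =
      chevG2.wordMat K (reeWordU (3 ^ m) t u v) := by
  have e1 : (iterateFrobeniusEquiv K 3 m : K →+* K) t = t ^ 3 ^ m := iterateFrobeniusEquiv_def K 3 m t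
  have e2 : (iterateFrobeniusEquiv K 3 m : K →+* K) u = u ^ 3 ^ m := iterateFrobeniusEquiv_def K 3 m u
  have e3 : (iterateFrobeniusEquiv K 3 m : K →+* K) v = v ^ 3 ^ m := iterateFrobeniusEquiv_def K 3 m v
  simp only [ReeWord.Sys.word, ReeWord.Sys.y, sysU, xG, Subgroup.coe_mul, Units.val_mul, Base.coe_xg, one_mul, e1, e2, e3]
  simp only [ChevalleyDatum.wordMat, reeWordU, List.map, List.prod_cons, List.prod_nil, mul_one, g2a, g2b, g2ab,
    g2aab, g2aaab, g2aaabb, mul_assoc]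
  rw [show t ^ 3 ^ m * t = t ^ (3 ^ m + 1) from (pow_succ _ _).symm,
    show (t ^ 3 ^ m) ^ 2 * t = t ^ (2 * 3 ^ m + 1) by rw [← pow_mul, pow_succ, mul_comm (3 ^ m) 2]]

theorem coe_wordV (t u v : K) :
    ((((sysV hK T hρR hf).word t u v : ↥(chevG2.group K)) : GL chevG2.Idx K) : Matrix chevG2.Idx chevG2.Idx K) =
      chevG2.wordMat K (reeWordV (3 ^ m) t u v) := by
  have e1 : (iterateFrobeniusEquiv K 3 m : K →+* K) t = t ^ 3 ^ m := iterateFrobeniusEquiv_def K 3 m t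
  have e2 : (iterateFrobeniusEquiv K 3 m : K →+* K) u = u ^ 3 ^ m := iterateFrobeniusEquiv_def K 3 m u
  have e3 : (iterateFrobeniusEquiv K 3 m : K →+* K) v = v ^ 3 ^ m := iterateFrobeniusEquiv_def K 3 m v
  simp only [ReeWord.Sys.word, ReeWord.Sys.y, sysV, xG, Subgroup.coe_mul, Units.val_mul, Base.coe_xg, neg_one_mul, e1, e2, e3]
  simp only [ChevalleyDatum.wordMat, reeWordV, ChevalleyDatum.negWord, reeWordU, List.map, List.prod_cons,
    List.prod_nil, mul_one, g2a, g2b, g2ab, g2aab, g2aaab, g2aaabb, mul_assoc]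
  rw [show t ^ 3 ^ m * t = t ^ (3 ^ m + 1) from (pow_succ _ _).symm,
    show (t ^ 3 ^ m) ^ 2 * t = t ^ (2 * 3 ^ m + 1) by rw [← pow_mul, pow_succ, mul_comm (3 ^ m) 2]]
  rfl

omit [Fintype K] [CharP K 3] [Fact (Nat.Prime 3)] in
theorem mem_F_coe (w : ↥(chevG2.group K)) : (w : GL chevG2.Idx K) ∈ T.F ↔ T.σ w = w := by
  rw [STwist.mem_F, T.s_of_mem w.2]
  constructor
  · rintro ⟨-, h⟩; exact Subtype.ext h
  · intro h; exact ⟨w.2, congrArg Subtype.val h⟩

theorem wordU_mem_F (t u v : K) : (((sysU hK T hρR hf).word t u v : ↥(chevG2.group K)) : GL chevG2.Idx K) ∈ T.F :=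
  (mem_F_coe T _).2 ((sysU hK T hρR hf).s_word t u v)

theorem wordV_mem_F (t u v : K) : (((sysV hK T hρR hf).word t u v : ↥(chevG2.group K)) : GL chevG2.Idx K) ∈ T.F :=
  (mem_F_coe T _).2 ((sysV hK T hρR hf).s_word t u v)

theorem wordU_mem_U (t u v : K) :
    (((sysU hK T hρR hf).word t u v : ↥(chevG2.group K)) : GL chevG2.Idx K) ∈ chevG2.posUnipotent K := by
  simp only [ReeWord.Sys.word, ReeWord.Sys.y, sysU, xG, Subgroup.coe_mul]
  have h : ∀ r, 6 ≤ r → r < 12 → ∀ c : K, (bnData_of_mem K memG2).hB.xg r c ∈ chevG2.posUnipotent K := by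
    intro r h1 h2 c
    exact (bnData_of_mem K memG2).hB.xg_mem_pos ((tabG2.pos_iff r h2).2 h1) c
  exact mul_mem (mul_mem (h _ (by decide) (by decide) _) (h _ (by decide) (by decide) _))
    (mul_mem (mul_mem (mul_mem (h _ (by decide) (by decide) _) (h _ (by decide) (by decide) _))
      (h _ (by decide) (by decide) _)) (h _ (by decide) (by decide) _))

theorem wordV_mem_V (t u v : K) :
    (((sysV hK T hρR hf).word t u v : ↥(chevG2.group K)) : GL chevG2.Idx K) ∈ chevG2.negUnipotent K := by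
  simp only [ReeWord.Sys.word, ReeWord.Sys.y, sysV, xG, Subgroup.coe_mul]
  have h : ∀ r, r < 6 → ∀ c : K, (bnData_of_mem K memG2).hB.xg r c ∈ chevG2.negUnipotent K := by
    intro r h1 c
    exact (bnData_of_mem K memG2).hB.xg_mem_neg ((tabG2.neg_iff r (Nat.lt_trans h1 (by decide))).2 h1) c
  exact mul_mem (mul_mem (h _ (by decide) _) (h _ (by decide) _))
    (mul_mem (mul_mem (mul_mem (h _ (by decide) _) (h _ (by decide) _))
      (h _ (by decide) _)) (h _ (by decide) _))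

/-- coefficient function of a canonical product -/
def cf (b a c1 c2 c3 c4 : K) : ℕ → K := fun r =>
  if r = 6 then b else if r = 7 then a else if r = 8 then c1 else if r = 9 then c2 else if r = 10 then c3 else c4

theorem coe_canon (b a c1 c2 c3 c4 : K) :
    ((((sysU hK T hρR hf).xb b * (sysU hK T hρR hf).xa a * (sysU hK T hρR hf).y c1 c2 c3 c4 :
      ↥(chevG2.group K)) : GL chevG2.Idx K) : Matrix chevG2.Idx chevG2.Idx K) =
      ordProd chevG2 [6, 7, 8, 9, 10, 11] (cf b a c1 c2 c3 c4) := by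
  simp only [ReeWord.Sys.y, sysU, xG, Subgroup.coe_mul, Units.val_mul, Base.coe_xg, ordProd_cons, ordProd_nil, cf,
    mul_one, mul_assoc]
  simp

omit [Fact (Nat.Prime 3)] in
theorem posRootsG2 : chevG2.posRoots = [6, 7, 8, 9, 10, 11] := by decide +kernel

theorem huniqU (b a c1 c2 c3 c4 b' a' c1' c2' c3' c4' : K)
    (h : (sysU hK T hρR hf).xb b * (sysU hK T hρR hf).xa a * (sysU hK T hρR hf).y c1 c2 c3 c4 =
      (sysU hK T hρR hf).xb b' * (sysU hK T hρR hf).xa a' * (sysU hK T hρR hf).y c1' c2' c3' c4') :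
    b = b' ∧ a = a' ∧ c1 = c1' ∧ c2 = c2' ∧ c3 = c3' ∧ c4 = c4' := by
  have h1 : ordProd chevG2 [6, 7, 8, 9, 10, 11] (cf b a c1 c2 c3 c4) =
      ordProd chevG2 [6, 7, 8, 9, 10, 11] (cf b' a' c1' c2' c3' c4') := by
    rw [← coe_canon hK T hρR hf, ← coe_canon hK T hρR hf, h]
  have h2 := ordProd_inj Cfsg.Agent.Lib.Helper36.checksG2 (triOK_of_mem memG2) (ordOK_of_mem memG2)
    [6, 7, 8, 9, 10, 11] (by rw [← posRootsG2]; exact (upList_posRoots chevG2).pos)
    (by rw [← posRootsG2]; exact (upList_posRoots chevG2).sorted) _ _ h1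
  refine ⟨by simpa [cf] using h2 6 (by simp), by simpa [cf] using h2 7 (by simp), by simpa [cf] using h2 8 (by simp),
    by simpa [cf] using h2 9 (by simp), by simpa [cf] using h2 10 (by simp), by simpa [cf] using h2 11 (by simp)⟩

include hK hρR hf in
/-- the fixed points in `U` are the Ree words. -/
theorem mem_U_inf_F_iff (g : GL chevG2.Idx K) : g ∈ chevG2.posUnipotent K ⊓ T.F ↔
    ∃ t u v : K, (g : Matrix chevG2.Idx chevG2.Idx K) = chevG2.wordMat K (reeWordU (3 ^ m) t u v) := by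
  constructor
  · rintro ⟨hU, hF⟩
    obtain ⟨c, hc⟩ := exists_ordProd Cfsg.Agent.Lib.Helper36.checksG2 (triOK_of_mem memG2) (ordOK_of_mem memG2) hU
    rw [posRootsG2] at hc
    have e0 : ordProd chevG2 [6, 7, 8, 9, 10, 11] c =
        ordProd chevG2 [6, 7, 8, 9, 10, 11] (cf (c 6) (c 7) (c 8) (c 9) (c 10) (c 11)) := by
      refine ordProd_congr fun r hr => ?_
      simp only [List.mem_cons, List.not_mem_nil, or_false] at hr
      rcases hr with rfl | rfl | rfl | rfl | rfl | rfl <;> simp [cf]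
    rw [e0, ← coe_canon hK T hρR hf] at hc
    have e1 : (⟨g, hF.1⟩ : ↥(chevG2.group K)) = (sysU hK T hρR hf).xb (c 6) * (sysU hK T hρR hf).xa (c 7) *
        (sysU hK T hρR hf).y (c 8) (c 9) (c 10) (c 11) := Subtype.ext (Units.ext hc)
    have e2 : T.σ ⟨g, hF.1⟩ = ⟨g, hF.1⟩ := (mem_F_coe T ⟨g, hF.1⟩).1 hF
    rw [e1] at e2
    obtain ⟨t, u, v, e3⟩ := (sysU hK T hρR hf).eq_word_of_fixed (huniqU hK T hρR hf) _ _ _ _ _ _ e2
    refine ⟨t, u, v, ?_⟩
    rw [← coe_wordU hK T hρR hf, ← e3, ← e1]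
  · rintro ⟨t, u, v, h⟩
    rw [← coe_wordU hK T hρR hf] at h
    rw [Units.ext h]
    exact ⟨wordU_mem_U hK T hρR hf t u v, wordU_mem_F hK T hρR hf t u v⟩

include hK hρR hf in
/-- `G¹ ≤ F`. -/
theorem G1_le_F : twistedG2 K (3 ^ m) ≤ T.F := by
  unfold twistedG2 ChevalleyDatum.genSubgroup
  rw [Subgroup.closure_le]
  rintro g ⟨w, ⟨t, u, v, rfl | rfl⟩, hg⟩
  · rw [← coe_wordU hK T hρR hf] at hg
    rw [Units.ext hg]
    exact wordU_mem_F hK T hρR hf t u v
  · rw [← coe_wordV hK T hρR hf] at hg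
    rw [Units.ext hg]
    exact wordV_mem_F hK T hρR hf t u v

theorem wordU_mem_G1 (t u v : K) :
    (((sysU hK T hρR hf).word t u v : ↥(chevG2.group K)) : GL chevG2.Idx K) ∈ twistedG2 K (3 ^ m) :=
  Subgroup.subset_closure ⟨_, ⟨t, u, v, Or.inl rfl⟩, coe_wordU hK T hρR hf t u v⟩

theorem wordV_mem_G1 (t u v : K) :
    (((sysV hK T hρR hf).word t u v : ↥(chevG2.group K)) : GL chevG2.Idx K) ∈ twistedG2 K (3 ^ m) :=
  Subgroup.subset_closure ⟨_, ⟨t, u, v, Or.inr rfl⟩, coe_wordV hK T hρR hf t u v⟩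

include hK hρR hf in
/-- `U ∩ F ≤ G¹`. -/
theorem U_inf_F_le : chevG2.posUnipotent K ⊓ T.F ≤ twistedG2 K (3 ^ m) := by
  intro g hg
  obtain ⟨t, u, v, h⟩ := (mem_U_inf_F_iff hK T hρR hf g).1 hg
  exact Subgroup.subset_closure ⟨_, ⟨t, u, v, Or.inl rfl⟩, h⟩

end Cfsg.Agent.Lib.Lead.Ree
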