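import Mathlib.Tactic
import Mathlib.Algebra.Field.Basic

set_option autoImplicit false

/-!
# The fixed points of the Ree twisting on a unipotent group of type `G₂` in characteristic 3 (abstract computation)
-/

namespace Cfsg.Agent.Lib.Lead.ReeWord

/-- six "root subgroups" `a, b, a+b, 2a+b, 3a+b, 3a+2b` with the relations valid in characteristic 3 (`δ = ±1`),
and an endomorphism `s` acting like the Ree twisting. -/
structure Sys (G K : Type*) [Group G] [Field K] where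
  xa : K → G
  xb : K → G
  x1 : K → G
  x2 : K → G
  x3 : K → G
  x4 : K → G
  δ : K
  hδ : δ = 1 ∨ δ = -1
  a1 : ∀ s t, x1 s * x1 t = x1 (s + t)
  a2 : ∀ s t, x2 s * x2 t = x2 (s + t)
  a3 : ∀ s t, x3 s * x3 t = x3 (s + t)
  a4 : ∀ s t, x4 s * x4 t = x4 (s + t)
  c12 : ∀ s t, Commute (x1 s) (x2 t)
  c13 : ∀ s t, Commute (x1 s) (x3 t)
  c14 : ∀ s t, Commute (x1 s) (x4 t)
  c23 : ∀ s t, Commute (x2 s) (x3 t)
  c24 : ∀ s t, Commute (x2 s) (x4 t)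
  c34 : ∀ s t, Commute (x3 s) (x4 t)
  hab : ∀ A B, xb B * xa A = xa A * xb B * (x1 (δ * A * B) * x2 (A ^ 2 * B) * x3 (-δ * A ^ 3 * B) * x4 (-A ^ 3 * B ^ 2))
  s : G →* G
  f : K →+* K
  F : K →+* K
  hF : ∀ x, F x = (f x) ^ 3
  hFf : ∀ x, F (f x) = x
  sa : ∀ t, s (xa t) = xb (F t)
  sb : ∀ t, s (xb t) = xa (f t)
  s1 : ∀ t, s (x1 t) = x3 (F t)
  s2 : ∀ t, s (x2 t) = x4 (F t)
  s3 : ∀ t, s (x3 t) = x1 (f t)
  s4 : ∀ t, s (x4 t) = x2 (f t)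

namespace Sys

variable {G K : Type*} [Group G] [Field K] (S : Sys G K)

/-- the abelian part -/
def y (c1 c2 c3 c4 : K) : G := S.x1 c1 * S.x2 c2 * S.x3 c3 * S.x4 c4

lemma y_mul (c1 c2 c3 c4 d1 d2 d3 d4 : K) :
    S.y c1 c2 c3 c4 * S.y d1 d2 d3 d4 = S.y (c1 + d1) (c2 + d2) (c3 + d3) (c4 + d4) := by
  unfold y
  rw [← S.a1, ← S.a2, ← S.a3, ← S.a4]
  have e1 := (S.c14 d1 c4).eq
  have e2 := (S.c13 d1 c3).eq
  have e3 := (S.c12 d1 c2).eq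
  have e4 := (S.c24 d2 c4).eq
  have e5 := (S.c23 d2 c3).eq
  have e6 := (S.c34 d3 c4).eq
  calc S.x1 c1 * S.x2 c2 * S.x3 c3 * S.x4 c4 * (S.x1 d1 * S.x2 d2 * S.x3 d3 * S.x4 d4)
      = S.x1 c1 * S.x2 c2 * S.x3 c3 * (S.x4 c4 * S.x1 d1) * S.x2 d2 * S.x3 d3 * S.x4 d4 := by group
    _ = S.x1 c1 * S.x2 c2 * (S.x3 c3 * S.x1 d1) * S.x4 c4 * S.x2 d2 * S.x3 d3 * S.x4 d4 := by rw [← e1]; group
    _ = S.x1 c1 * (S.x2 c2 * S.x1 d1) * S.x3 c3 * S.x4 c4 * S.x2 d2 * S.x3 d3 * S.x4 d4 := by rw [← e2]; group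
    _ = S.x1 c1 * S.x1 d1 * S.x2 c2 * S.x3 c3 * (S.x4 c4 * S.x2 d2) * S.x3 d3 * S.x4 d4 := by rw [← e3]; group
    _ = S.x1 c1 * S.x1 d1 * S.x2 c2 * (S.x3 c3 * S.x2 d2) * S.x4 c4 * S.x3 d3 * S.x4 d4 := by rw [← e4]; group
    _ = S.x1 c1 * S.x1 d1 * S.x2 c2 * S.x2 d2 * S.x3 c3 * (S.x4 c4 * S.x3 d3) * S.x4 d4 := by rw [← e5]; group
    _ = S.x1 c1 * S.x1 d1 * (S.x2 c2 * S.x2 d2) * (S.x3 c3 * S.x3 d3) * (S.x4 c4 * S.x4 d4) := by rw [← e6]; group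

lemma s_y (c1 c2 c3 c4 : K) : S.s (S.y c1 c2 c3 c4) = S.y (S.f c3) (S.f c4) (S.F c1) (S.F c2) := by
  unfold y
  rw [map_mul, map_mul, map_mul, S.s1, S.s2, S.s3, S.s4]
  have e1 := (S.c14 (S.f c3) (S.F c2)).eq
  have e2 := (S.c13 (S.f c3) (S.F c1)).eq
  have e3 := (S.c24 (S.f c4) (S.F c2)).eq
  have e4 := (S.c23 (S.f c4) (S.F c1)).eq
  calc S.x3 (S.F c1) * S.x4 (S.F c2) * S.x1 (S.f c3) * S.x2 (S.f c4)
      = S.x3 (S.F c1) * (S.x4 (S.F c2) * S.x1 (S.f c3)) * S.x2 (S.f c4) := by group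
    _ = (S.x3 (S.F c1) * S.x1 (S.f c3)) * (S.x4 (S.F c2) * S.x2 (S.f c4)) := by rw [← e1]; group
    _ = S.x1 (S.f c3) * (S.x3 (S.F c1) * S.x2 (S.f c4)) * S.x4 (S.F c2) := by rw [← e2, ← e3]; group
    _ = S.x1 (S.f c3) * S.x2 (S.f c4) * S.x3 (S.F c1) * S.x4 (S.F c2) := by rw [← e4]; group

lemma y_congr {c1 c2 c3 c4 d1 d2 d3 d4 : K} (h1 : c1 = d1) (h2 : c2 = d2) (h3 : c3 = d3) (h4 : c4 = d4) :
    S.y c1 c2 c3 c4 = S.y d1 d2 d3 d4 := by rw [h1, h2, h3, h4]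

/-- the Ree word -/
def word (t u v : K) : G :=
  S.xa (S.δ * S.f t) * S.xb (S.δ * t) *
    S.y (S.δ * (S.f t * t + S.f u)) (S.δ * ((S.f t) ^ 2 * t + S.f v)) (S.δ * u) (S.δ * v)

lemma fδ : S.f S.δ = S.δ := by rcases S.hδ with h | h <;> rw [h] <;> simp
lemma Fδ : S.F S.δ = S.δ := by rcases S.hδ with h | h <;> rw [h] <;> simp

theorem s_word (t u v : K) : S.s (S.word t u v) = S.word t u v := by
  unfold word
  rw [map_mul, map_mul, S.sa, S.sb, S.s_y, S.hab, mul_assoc, ← y, S.y_mul]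
  simp only [map_mul, map_add, map_pow, S.fδ, S.Fδ, S.hFf]
  rw [S.hF t]
  congr 1
  apply S.y_congr <;> rcases S.hδ with h | h <;> rw [h] <;> ring

/-- the canonical form (order `b, a, …`) of the Ree word -/
theorem word_eq (t u v : K) : S.word t u v = S.xb (S.δ * t) * S.xa (S.δ * S.f t) *
    S.y (S.δ * S.f u) (S.δ * S.f v) (S.δ * (u + (S.f t) ^ 3 * t)) (S.δ * (v + (S.f t) ^ 3 * t ^ 2)) := by
  unfold word
  rw [S.hab, mul_assoc (S.xa _ * S.xb _), ← y, S.y_mul]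
  congr 1
  apply S.y_congr <;> rcases S.hδ with h | h <;> rw [h] <;> ring

/-- a fixed element in canonical form is a Ree word, if the canonical form is unique. -/
theorem eq_word_of_fixed
    (huniq : ∀ b a c1 c2 c3 c4 b' a' c1' c2' c3' c4' : K,
      S.xb b * S.xa a * S.y c1 c2 c3 c4 = S.xb b' * S.xa a' * S.y c1' c2' c3' c4' →
      b = b' ∧ a = a' ∧ c1 = c1' ∧ c2 = c2' ∧ c3 = c3' ∧ c4 = c4')
    (b a c1 c2 c3 c4 : K) (hfix : S.s (S.xb b * S.xa a * S.y c1 c2 c3 c4) = S.xb b * S.xa a * S.y c1 c2 c3 c4) :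
    ∃ t u v, S.xb b * S.xa a * S.y c1 c2 c3 c4 = S.word t u v := by
  have hδ2 : S.δ * S.δ = 1 := by rcases S.hδ with h | h <;> rw [h] <;> simp
  have e : S.s (S.xb b * S.xa a * S.y c1 c2 c3 c4) = S.xb (S.F a) * S.xa (S.f b) *
      S.y (S.f c3 - S.δ * S.f b * S.F a) (S.f c4 - (S.f b) ^ 2 * S.F a) (S.F c1 + S.δ * (S.f b) ^ 3 * S.F a)
        (S.F c2 + (S.f b) ^ 3 * (S.F a) ^ 2) := by
    rw [map_mul, map_mul, S.sa, S.sb, S.s_y, S.hab, mul_assoc (S.xa _ * S.xb _), ← y, S.y_mul]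
    congr 1
    apply S.y_congr <;> ring
  rw [e] at hfix
  obtain ⟨h1, h2, h3, h4, -, -⟩ := huniq _ _ _ _ _ _ _ _ _ _ _ _ hfix
  refine ⟨S.δ * b, S.δ * c3 - (S.f (S.δ * b)) ^ 3 * (S.δ * b), S.δ * c4 - (S.f (S.δ * b)) ^ 3 * (S.δ * b) ^ 2, ?_⟩
  rw [S.word_eq]
  have hb : S.δ * (S.δ * b) = b := by rw [← mul_assoc, hδ2, one_mul]
  have hFfb : (S.f (S.f b)) ^ 3 = b := by rw [← S.hF, S.hFf]
  rw [h1] at h3 h4
  have ea : S.δ * S.f (S.δ * b) = a := by rw [map_mul, S.fδ, ← mul_assoc, hδ2, one_mul, h2]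
  rw [hb, ea]
  congr 1
  apply S.y_congr
  · simp only [map_sub, map_mul, map_pow, S.fδ]
    rcases S.hδ with h | h <;> rw [h] at h3 ⊢
    · linear_combination (-1 : K) * h3 + S.f b * hFfb
    · linear_combination (-1 : K) * h3 - S.f b * hFfb
  · simp only [map_sub, map_mul, map_pow, S.fδ]
    rcases S.hδ with h | h <;> rw [h] <;> linear_combination (-1 : K) * h4 + (S.f b) ^ 2 * hFfb
  · rcases S.hδ with h | h <;> rw [h] <;> ring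
  · rcases S.hδ with h | h <;> rw [h] <;> ring

end Sys

end Cfsg.Agent.Lib.Lead.ReeWord
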