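import Cfsg.Agent.Lib.Lead.SInst
import Cfsg.Agent.Lib.Lead.ReeWord
import Cfsg.Prelude.Def_LieTwisted

set_option autoImplicit false

/-!
# The twisting automorphism of `G₂(3^(2m+1))` and its fixed points in `U` and `V`
-/

namespace Cfsg.Agent.Lib.Lead.Ree

open Cfsg.Lie Matrix Cfsg.Agent.Lib.Helper6 Cfsg.Agent.Lib.Helper18 Cfsg.Agent.Lib.Lead.ChevSpecial
  Cfsg.Agent.Lib.Lead.FixTwist

def rhoG2 (i : ℕ) : ℕ := [1, 0].getD i 0
def rhoRG2 (r : ℕ) : ℕ := (rG2.getD r (0, 1)).1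
def orbsG2 : List (List ℕ) := [[0, 1, 0, 1, 0, 1]]

set_option maxRecDepth 100000 in
theorem sTabG2 : STab chevG2 rhoG2 rhoRG2 orbsG2 orbsG2 :=
  sTab_of_check tabG2 Cfsg.Agent.Lib.Helper18.agreeG2 (by decide +kernel) (by decide +kernel) (by decide +kernel)
    (by decide +kernel) (by decide +kernel) (by decide +kernel)

theorem memG2 : chevG2 ∈ [chevG2, chevB2, chevD4, chevF4, chevE6, chevE7, chevE8] := by simp

/-- the exponent of `3` in `e(r)` -/
def kG2 (r : ℕ) : ℕ := [0, 0, 1, 1, 1, 0, 0, 1, 1, 1, 0, 0].getD r 0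

section general

variable {D : ChevalleyDatum} {K : Type*} [Field K]

/-- root elements commute when the constants of the commutator formula vanish in `K` -/
theorem commute_xg (hB : Base D K) {r s : ℕ} (hr : r < D.nroots) (hs : s < D.nroots) (hne : s ≠ r)
    (hneg : s ≠ D.neg r) (h : ∀ c ∈ D.commTerms r s, ((c.2.1 : ℤ) : K) = 0) (t u : K) :
    Commute (hB.xg r t) (hB.xg s u) := by
  have h1 : D.wordMat K (D.commWord K r s t u) = 1 := by
    unfold ChevalleyDatum.wordMat ChevalleyDatum.commWord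
    apply List.prod_eq_one
    intro x hx
    simp only [List.map_map, List.mem_map, Function.comp] at hx
    obtain ⟨c, hc, rfl⟩ := hx
    rw [h c hc, zero_mul, zero_mul, hB.x_zero]
  have h2 := hB.comm r s hr hs hne hneg t u
  rw [h1, mul_one] at h2
  exact (Units.ext h2 : hB.xg s u * hB.xg r t = hB.xg r t * hB.xg s u).symm

end general

variable {K : Type*} [Field K]

theorem exists_twist [Fintype K] {m : ℕ} (hK : Fintype.card K = 3 ^ (2 * m + 1)) :
    ∃ T : STwist (bnData_of_mem K memG2), T.ρ = rhoG2 ∧ T.ρR = rhoRG2 ∧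
      ∀ r t, T.f r t = t ^ (3 ^ (m + kG2 r)) := by
  haveI : Fact (Nat.Prime 3) := ⟨by norm_num⟩
  haveI : CharP K 3 := charP_of_card_eq_prime_pow hK
  have hperf : ∀ x : K, ∃ y : K, y ^ 3 = x := by
    intro x
    refine ⟨x ^ (3 ^ (2 * m)), ?_⟩
    rw [← pow_mul, ← pow_succ, ← hK, FiniteField.pow_card]
  obtain ⟨α, -, hα⟩ := specialG2 hperf
  exact exists_sTwist (bnData_of_mem K memG2) 3 m rG2 sTabG2 α hα kG2 (by decide) (by decide)

/-! ### the relations -/

theorem hab_pos (hB : Base chevG2 K) (A B : K) : hB.xg 6 B * hB.xg 7 A = hB.xg 7 A * hB.xg 6 B *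
    (hB.xg 8 (1 * A * B) * hB.xg 9 (A ^ 2 * B) * hB.xg 10 (-1 * A ^ 3 * B) * hB.xg 11 (-A ^ 3 * B ^ 2)) := by
  apply Units.ext
  simp only [Units.val_mul, hB.coe_xg]
  rw [hB.comm 7 6 (by decide) (by decide) (by decide) (by decide) A B]
  congr 1
  unfold ChevalleyDatum.wordMat ChevalleyDatum.commWord
  rw [show chevG2.commTerms 7 6 = [(8, -1, 1, 1), (9, 1, 2, 1), (10, 1, 3, 1), (11, 1, 3, 2)] from by decide +kernel]
  simp only [List.map, List.prod_cons, List.prod_nil, mul_one]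
  rw [show (((-1 : ℤ) : ℤ) : K) * (-A) ^ 1 * B ^ 1 = 1 * A * B by push_cast; ring,
    show (((1 : ℤ) : ℤ) : K) * (-A) ^ 2 * B ^ 1 = A ^ 2 * B by push_cast; ring,
    show (((1 : ℤ) : ℤ) : K) * (-A) ^ 3 * B ^ 1 = -1 * A ^ 3 * B by push_cast; ring,
    show (((1 : ℤ) : ℤ) : K) * (-A) ^ 3 * B ^ 2 = -A ^ 3 * B ^ 2 by push_cast; ring]
  simp only [mul_assoc]

theorem hab_neg (hB : Base chevG2 K) (A B : K) : hB.xg 5 B * hB.xg 4 A = hB.xg 4 A * hB.xg 5 B *
    (hB.xg 3 (-1 * A * B) * hB.xg 2 (A ^ 2 * B) * hB.xg 1 (- -1 * A ^ 3 * B) * hB.xg 0 (-A ^ 3 * B ^ 2)) := by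
  apply Units.ext
  simp only [Units.val_mul, hB.coe_xg]
  rw [hB.comm 4 5 (by decide) (by decide) (by decide) (by decide) A B]
  congr 1
  unfold ChevalleyDatum.wordMat ChevalleyDatum.commWord
  rw [show chevG2.commTerms 4 5 = [(3, 1, 1, 1), (2, 1, 2, 1), (1, -1, 3, 1), (0, 1, 3, 2)] from by decide +kernel]
  simp only [List.map, List.prod_cons, List.prod_nil, mul_one]
  rw [show (((1 : ℤ) : ℤ) : K) * (-A) ^ 1 * B ^ 1 = -1 * A * B by push_cast; ring,
    show (((1 : ℤ) : ℤ) : K) * (-A) ^ 2 * B ^ 1 = A ^ 2 * B by push_cast; ring,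
    show (((-1 : ℤ) : ℤ) : K) * (-A) ^ 3 * B ^ 1 = - -1 * A ^ 3 * B by push_cast; ring,
    show (((1 : ℤ) : ℤ) : K) * (-A) ^ 3 * B ^ 2 = -A ^ 3 * B ^ 2 by push_cast; ring]
  simp only [mul_assoc]

theorem commute3 [CharP K 3] (hB : Base chevG2 K) {r s : ℕ} (hr : r < 12) (hs : s < 12) (hne : s ≠ r)
    (hneg : s ≠ chevG2.neg r) (h : ∀ c ∈ chevG2.commTerms r s, (3 : ℤ) ∣ c.2.1) (t u : K) :
    Commute (hB.xg r t) (hB.xg s u) :=
  commute_xg hB hr hs hne hneg (fun c hc => (CharP.intCast_eq_zero_iff K 3 _).2 (by exact_mod_cast h c hc)) t u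

/-- root elements in the group -/
def xG (hB : Base chevG2 K) (r : ℕ) (hr : r < 12) (t : K) : ↥(chevG2.group K) :=
  ⟨hB.xg r t, hB.xg_mem_group hr t⟩

theorem xG_add (hB : Base chevG2 K) (r : ℕ) (hr : r < 12) (s t : K) :
    xG hB r hr s * xG hB r hr t = xG hB r hr (s + t) := Subtype.ext (hB.xg_add r s t)

theorem xG_commute [CharP K 3] (hB : Base chevG2 K) {r s : ℕ} (hr : r < 12) (hs : s < 12) (hne : s ≠ r)
    (hneg : s ≠ chevG2.neg r) (h : ∀ c ∈ chevG2.commTerms r s, (3 : ℤ) ∣ c.2.1) (t u : K) :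
    Commute (xG hB r hr t) (xG hB s hs u) :=
  Subtype.ext (commute3 hB hr hs hne hneg h t u).eq

section sys

variable [Fintype K] {m : ℕ} (hK : Fintype.card K = 3 ^ (2 * m + 1)) (T : STwist (bnData_of_mem K memG2))
  (hρR : T.ρR = rhoRG2) (hf : ∀ r t, T.f r t = t ^ (3 ^ (m + kG2 r)))

include hρR hf in
theorem σ_xG (r : ℕ) (hr : r < 12) (r' : ℕ) (hr' : r' < 12) (e : rhoRG2 r = r') (t : K) :
    T.σ (xG (bnData_of_mem K memG2).hB r hr t) = xG (bnData_of_mem K memG2).hB r' hr' (t ^ (3 ^ (m + kG2 r))) := by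
  apply Subtype.ext
  have := T.σ_xg r hr t
  rw [hρR, e, hf] at this
  exact this

include hρR hf in
theorem σ_xG' [CharP K 3] [Fact (Nat.Prime 3)] (r : ℕ) (hr : r < 12) (r' : ℕ) (hr' : r' < 12) (e : rhoRG2 r = r')
    (k : ℕ) (hk : kG2 r = k) (t : K) :
    T.σ.toMonoidHom (xG (bnData_of_mem K memG2).hB r hr t) =
      xG (bnData_of_mem K memG2).hB r' hr' ((iterateFrobeniusEquiv K 3 (m + k) : K →+* K) t) := by
  show T.σ _ = xG _ r' hr' (iterateFrobeniusEquiv K 3 (m + k) t)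
  rw [σ_xG T hρR hf r hr r' hr' e t, hk, iterateFrobeniusEquiv_def]

/-- the system of the positive roots -/
noncomputable def sysU [CharP K 3] [Fact (Nat.Prime 3)] : ReeWord.Sys ↥(chevG2.group K) K where
  xa := xG (bnData_of_mem K memG2).hB 7 (by decide)
  xb := xG (bnData_of_mem K memG2).hB 6 (by decide)
  x1 := xG (bnData_of_mem K memG2).hB 8 (by decide)
  x2 := xG (bnData_of_mem K memG2).hB 9 (by decide)
  x3 := xG (bnData_of_mem K memG2).hB 10 (by decide)
  x4 := xG (bnData_of_mem K memG2).hB 11 (by decide)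
  δ := 1
  hδ := Or.inl rfl
  a1 := xG_add _ _ _
  a2 := xG_add _ _ _
  a3 := xG_add _ _ _
  a4 := xG_add _ _ _
  c12 := xG_commute _ _ _ (by decide) (by decide) (by decide +kernel)
  c13 := xG_commute _ _ _ (by decide) (by decide) (by decide +kernel)
  c14 := xG_commute _ _ _ (by decide) (by decide) (by decide +kernel)
  c23 := xG_commute _ _ _ (by decide) (by decide) (by decide +kernel)
  c24 := xG_commute _ _ _ (by decide) (by decide) (by decide +kernel)
  c34 := xG_commute _ _ _ (by decide) (by decide) (by decide +kernel)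
  hab := fun A B => Subtype.ext (hab_pos (bnData_of_mem K memG2).hB A B)
  s := T.σ.toMonoidHom
  f := (iterateFrobeniusEquiv K 3 m : K →+* K)
  F := (iterateFrobeniusEquiv K 3 (m + 1) : K →+* K)
  hF := fun x => by
    show iterateFrobeniusEquiv K 3 (m + 1) x = (iterateFrobeniusEquiv K 3 m x) ^ 3
    rw [iterateFrobeniusEquiv_def, iterateFrobeniusEquiv_def, ← pow_mul, ← pow_succ]
  hFf := fun x => by
    show iterateFrobeniusEquiv K 3 (m + 1) (iterateFrobeniusEquiv K 3 m x) = x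
    rw [iterateFrobeniusEquiv_def, iterateFrobeniusEquiv_def, ← pow_mul, ← pow_add,
      show m + (m + 1) = 2 * m + 1 by ring, ← hK, FiniteField.pow_card]
  sa := σ_xG' T hρR hf 7 (by decide) 6 (by decide) (by decide) 1 (by decide)
  sb := σ_xG' T hρR hf 6 (by decide) 7 (by decide) (by decide) 0 (by decide)
  s1 := σ_xG' T hρR hf 8 (by decide) 10 (by decide) (by decide) 1 (by decide)
  s2 := σ_xG' T hρR hf 9 (by decide) 11 (by decide) (by decide) 1 (by decide)
  s3 := σ_xG' T hρR hf 10 (by decide) 8 (by decide) (by decide) 0 (by decide)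
  s4 := σ_xG' T hρR hf 11 (by decide) 9 (by decide) (by decide) 0 (by decide)

/-- the system of the negative roots -/
noncomputable def sysV [CharP K 3] [Fact (Nat.Prime 3)] : ReeWord.Sys ↥(chevG2.group K) K where
  xa := xG (bnData_of_mem K memG2).hB 4 (by decide)
  xb := xG (bnData_of_mem K memG2).hB 5 (by decide)
  x1 := xG (bnData_of_mem K memG2).hB 3 (by decide)
  x2 := xG (bnData_of_mem K memG2).hB 2 (by decide)
  x3 := xG (bnData_of_mem K memG2).hB 1 (by decide)
  x4 := xG (bnData_of_mem K memG2).hB 0 (by decide)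
  δ := -1
  hδ := Or.inr rfl
  a1 := xG_add _ _ _
  a2 := xG_add _ _ _
  a3 := xG_add _ _ _
  a4 := xG_add _ _ _
  c12 := xG_commute _ _ _ (by decide) (by decide) (by decide +kernel)
  c13 := xG_commute _ _ _ (by decide) (by decide) (by decide +kernel)
  c14 := xG_commute _ _ _ (by decide) (by decide) (by decide +kernel)
  c23 := xG_commute _ _ _ (by decide) (by decide) (by decide +kernel)
  c24 := xG_commute _ _ _ (by decide) (by decide) (by decide +kernel)
  c34 := xG_commute _ _ _ (by decide) (by decide) (by decide +kernel)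
  hab := fun A B => Subtype.ext (hab_neg (bnData_of_mem K memG2).hB A B)
  s := T.σ.toMonoidHom
  f := (iterateFrobeniusEquiv K 3 m : K →+* K)
  F := (iterateFrobeniusEquiv K 3 (m + 1) : K →+* K)
  hF := fun x => by
    show iterateFrobeniusEquiv K 3 (m + 1) x = (iterateFrobeniusEquiv K 3 m x) ^ 3
    rw [iterateFrobeniusEquiv_def, iterateFrobeniusEquiv_def, ← pow_mul, ← pow_succ]
  hFf := fun x => by
    show iterateFrobeniusEquiv K 3 (m + 1) (iterateFrobeniusEquiv K 3 m x) = x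
    rw [iterateFrobeniusEquiv_def, iterateFrobeniusEquiv_def, ← pow_mul, ← pow_add,
      show m + (m + 1) = 2 * m + 1 by ring, ← hK, FiniteField.pow_card]
  sa := σ_xG' T hρR hf 4 (by decide) 5 (by decide) (by decide) 1 (by decide)
  sb := σ_xG' T hρR hf 5 (by decide) 4 (by decide) (by decide) 0 (by decide)
  s1 := σ_xG' T hρR hf 3 (by decide) 1 (by decide) (by decide) 1 (by decide)
  s2 := σ_xG' T hρR hf 2 (by decide) 0 (by decide) (by decide) 1 (by decide)
  s3 := σ_xG' T hρR hf 1 (by decide) 3 (by decide) (by decide) 0 (by decide)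
  s4 := σ_xG' T hρR hf 0 (by decide) 2 (by decide) (by decide) 0 (by decide)

end sys

end Cfsg.Agent.Lib.Lead.Ree
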