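import Cfsg.Agent.Lib.Lead.ReeU
import Cfsg.Agent.Lib.Helper36.ChevOut3

set_option autoImplicit false

/-!
# `²G₂`: the group `H¹`
-/

namespace Cfsg.Agent.Lib.Lead.Ree

open Cfsg.Lie Matrix Cfsg.Agent.Lib.Helper6 Cfsg.Agent.Lib.Helper18 Cfsg.Agent.Lib.Lead.ChevSpecial
  Cfsg.Agent.Lib.Lead.FixTwist Cfsg.Agent.Lib.Helper17

section general

variable {D : ChevalleyDatum} {F : Type*} [Field F]

theorem chi_mul (z z' : Fin D.rank → Fˣ) (s : ℕ) : chi (z * z') s = chi z s * chi z' s := by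
  unfold chi
  rw [← Finset.prod_mul_distrib]
  exact Finset.prod_congr rfl fun i _ => by rw [Pi.mul_apply, mul_zpow]

/-- if the longest element is `-1` then its representative inverts `H`. -/
theorem nW_conj_H_inv (hD : D ∈ [chevG2, chevB2, chevD4, chevF4, chevE6, chevE7, chevE8]) (hB : Base D F)
    (hT : Tab D) {L : List ℕ} (hL : ∀ i ∈ L, i < D.rank) (hw : ∀ r, r < D.nroots → wAct D L r = D.neg r)
    (hneg : ∀ r, r < D.nroots → D.neg r < D.nroots ∧ D.neg (D.neg r) = r)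
    {h : GL D.Idx F} (hh : h ∈ D.diagonalSubgroup F) : hB.nW L * h * (hB.nW L)⁻¹ = h⁻¹ := by
  obtain ⟨T, W, hC⟩ := Cfsg.Agent.Lib.Helper36.exists_checks D hD
  have h1 := (hB.N_conj_H hT (hB.nW_mem hT hL)).1 h hh
  rw [← hB.range_hHom hT] at hh h1
  obtain ⟨z, rfl⟩ := hh
  obtain ⟨z', hz'⟩ := h1
  rw [← hz', eq_inv_iff_mul_eq_one, ← map_mul, hB.hHom_eq_one_iff]
  intro s hs
  rw [chi_mul]
  obtain ⟨hs', hss⟩ := hneg s hs
  obtain ⟨η, hη, e⟩ := hB.nW_conj_xg hT hL hs'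
  rw [hw _ hs', hss] at e
  have hηη : η * η = 1 := by rcases hη with rfl | rfl <;> simp
  have e1 : hB.hHom z' * hB.xg s 1 * (hB.hHom z')⁻¹ = hB.xg s ((chi z (D.neg s) : F) * 1) := by
    have e2 : hB.xg s 1 = hB.nW L * hB.xg (D.neg s) η * (hB.nW L)⁻¹ := by rw [e, hηη]
    rw [hz', e2]
    have e3 : hB.nW L * hB.hHom z * (hB.nW L)⁻¹ * (hB.nW L * hB.xg (D.neg s) η * (hB.nW L)⁻¹) *
        (hB.nW L * hB.hHom z * (hB.nW L)⁻¹)⁻¹ =
        hB.nW L * (hB.hHom z * hB.xg (D.neg s) η * (hB.hHom z)⁻¹) * (hB.nW L)⁻¹ := by group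
    rw [e3, Cfsg.Agent.Lib.Helper36.hHom_conj hD hB z hs', e]
    congr 1
    rw [mul_one, mul_left_comm, hηη, mul_one]
  rw [Cfsg.Agent.Lib.Helper36.hHom_conj hD hB z' hs] at e1
  have e4 := Cfsg.Agent.Lib.Helper36.xg_inj hB hs e1
  rw [mul_one, mul_one] at e4
  rw [Units.ext e4, (Cfsg.Agent.Lib.Helper36.chi18_isRootCharacter hC z).1 s hs, inv_mul_cancel]

end general

variable {K : Type*} [Field K]

theorem chi_a (z : Fin chevG2.rank → Kˣ) : chi z 7 = z ⟨0, by decide⟩ ^ 2 * (z ⟨1, by decide⟩)⁻¹ := by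
  unfold chi
  rw [show (∏ i : Fin chevG2.rank, z i ^ chevG2.cartan i 7) = ∏ i : Fin 2, z i ^ chevG2.cartan i 7 from rfl,
    Fin.prod_univ_two]
  rw [show chevG2.cartan ((0 : Fin 2) : ℕ) 7 = 2 by decide +kernel, show chevG2.cartan ((1 : Fin 2) : ℕ) 7 = -1 by decide +kernel]
  rw [_root_.zpow_neg_one]; rfl

theorem chi_b (z : Fin chevG2.rank → Kˣ) : chi z 6 = (z ⟨0, by decide⟩ ^ 3)⁻¹ * (z ⟨1, by decide⟩) ^ 2 := by
  unfold chi
  rw [show (∏ i : Fin chevG2.rank, z i ^ chevG2.cartan i 6) = ∏ i : Fin 2, z i ^ chevG2.cartan i 6 from rfl,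
    Fin.prod_univ_two]
  rw [show chevG2.cartan ((0 : Fin 2) : ℕ) 6 = -3 by decide +kernel, show chevG2.cartan ((1 : Fin 2) : ℕ) 6 = 2 by decide +kernel]
  rw [_root_.zpow_neg]; rfl

theorem hHom_injective : Function.Injective (bnData_of_mem K memG2).hB.hHom := by
  rw [injective_iff_map_eq_one]
  intro z hz
  rw [Base.hHom_eq_one_iff] at hz
  have h1 := hz 7 (by decide)
  have h2 := hz 6 (by decide)
  rw [chi_a] at h1
  rw [chi_b] at h2
  have h3 : z ⟨1, by decide⟩ = z ⟨0, by decide⟩ ^ 2 := (mul_inv_eq_one.mp h1).symm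
  rw [h3, inv_mul_eq_one] at h2
  have h4 : z ⟨0, by decide⟩ = 1 := by
    have : z ⟨0, by decide⟩ ^ 3 * 1 = z ⟨0, by decide⟩ ^ 3 * z ⟨0, by decide⟩ := by
      rw [mul_one, ← pow_succ, h2, ← pow_mul]
    exact (mul_left_cancel this).symm
  rw [h4, one_pow] at h3
  funext i
  have hi : i = ⟨0, by decide⟩ ∨ i = ⟨1, by decide⟩ := by
    have : ∀ i : Fin 2, i = 0 ∨ i = 1 := by decide
    exact this i
  rcases hi with rfl | rfl
  · exact h4
  · exact h3

/-- a pair of units as a family indexed by the fundamental roots `a`, `b` -/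
def zz (a b : Kˣ) : Fin chevG2.rank → Kˣ := fun i => if (i : ℕ) = 0 then a else b

theorem zz_mul (a b a' b' : Kˣ) : zz a b * zz a' b' = zz (a * a') (b * b') := by
  funext i
  simp only [zz, Pi.mul_apply]
  split_ifs <;> rfl

theorem eq_zz (z : Fin chevG2.rank → Kˣ) : z = zz (z ⟨0, by decide⟩) (z ⟨1, by decide⟩) := by
  funext i
  have hi : i = ⟨0, by decide⟩ ∨ i = ⟨1, by decide⟩ := by
    have : ∀ i : Fin 2, i = 0 ∨ i = 1 := by decide
    exact this i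
  rcases hi with rfl | rfl <;> simp [zz]

theorem zz_inj {a b a' b' : Kˣ} (h : zz a b = zz a' b') : a = a' ∧ b = b' := by
  have h0 := congrFun h ⟨0, by decide⟩
  have h1 := congrFun h ⟨1, by decide⟩
  simp only [zz] at h0 h1
  exact ⟨by simpa using h0, by simpa using h1⟩

theorem hHom_zz (a b : Kˣ) : (bnData_of_mem K memG2).hB.hHom (zz a b) =
    (bnData_of_mem K memG2).hB.hg 7 a * (bnData_of_mem K memG2).hB.hg 6 b := by
  rw [Base.hHom_apply]
  unfold Base.hprod Base.hl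
  rw [show List.range chevG2.rank = [0, 1] from rfl]
  simp only [List.map_cons, List.map_nil, List.prod_cons, List.prod_nil, mul_one]
  rw [show chevG2.simple 0 = 7 from rfl, show chevG2.simple 1 = 6 from rfl]
  rw [show extU (zz a b) 0 = (a : K) from by simp [extU, zz, show (0 : ℕ) < chevG2.rank by decide]]
  rw [show extU (zz a b) 1 = (b : K) from by simp [extU, zz, show (1 : ℕ) < chevG2.rank by decide]]

theorem hHom_zz' (a b : Kˣ) : (bnData_of_mem K memG2).hB.hHom (zz a b) =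
    (bnData_of_mem K memG2).hB.hg 6 b * (bnData_of_mem K memG2).hB.hg 7 a := by
  have h1 := hHom_zz (1 : Kˣ) b
  have h2 := hHom_zz a (1 : Kˣ)
  rw [Units.val_one, Base.hg_one, one_mul] at h1
  rw [Units.val_one, Base.hg_one, mul_one] at h2
  rw [← h1, ← h2, ← map_mul, zz_mul, one_mul, mul_one]

variable [Fintype K] {m : ℕ} (hK : Fintype.card K = 3 ^ (2 * m + 1))
  (T : STwist (bnData_of_mem K memG2))
  (hρR : T.ρR = rhoRG2) (hf : ∀ r t, T.f r t = t ^ (3 ^ (m + kG2 r)))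

include hρR hf in
omit [Fintype K] in
theorem s_hHom (a b : Kˣ) : T.s ((bnData_of_mem K memG2).hB.hHom (zz a b)) =
    (bnData_of_mem K memG2).hB.hHom (zz (b ^ 3 ^ m) (a ^ 3 ^ (m + 1))) := by
  have hG : ∀ r, r < 12 → ∀ c : Kˣ, (bnData_of_mem K memG2).hB.hg r c ∈ chevG2.group K := fun r hr c =>
    (bnData_of_mem K memG2).hB.H_le_group (bnData_of_mem K memG2).hT.tab
      ((bnData_of_mem K memG2).hB.hg_mem hr c.ne_zero)
  rw [hHom_zz, T.s_mul (hG 7 (by decide) a) (hG 6 (by decide) b), T.s_hg (by decide), T.s_hg (by decide), hρR, hf, hf,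
    hHom_zz']
  rfl

/-- the parametrisation of `H ∩ F` -/
noncomputable def hR (K : Type*) [Field K] (m : ℕ) : Kˣ →* GL chevG2.Idx K where
  toFun c := (bnData_of_mem K memG2).hB.hHom (zz (c ^ 3 ^ m) c)
  map_one' := by
    rw [one_pow, ← map_one (bnData_of_mem K memG2).hB.hHom]
    congr 1
    funext i; simp [zz]
  map_mul' a b := by rw [← map_mul, zz_mul, mul_pow]

omit [Fintype K] in
theorem hR_apply (c : Kˣ) : hR K m c = (bnData_of_mem K memG2).hB.hHom (zz (c ^ 3 ^ m) c) := rfl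

omit [Fintype K] in
theorem hR_injective : Function.Injective (hR K m) := by
  intro a b h
  exact (zz_inj (hHom_injective h)).2

omit [Fintype K] in
theorem hR_mem_H (c : Kˣ) : hR K m c ∈ chevG2.diagonalSubgroup K := by
  rw [← (bnData_of_mem K memG2).hB.range_hHom (bnData_of_mem K memG2).hT.tab]
  exact ⟨_, rfl⟩

include hK in
theorem units_pow_card (c : Kˣ) : c ^ 3 ^ (2 * m + 1) = c := by
  apply Units.ext
  rw [Units.val_pow_eq_pow_val, ← hK, FiniteField.pow_card]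

include hK hρR hf in
theorem mem_H_inf_F_iff (g : GL chevG2.Idx K) : g ∈ chevG2.diagonalSubgroup K ⊓ T.F ↔ ∃ c, hR K m c = g := by
  constructor
  · rintro ⟨hH, hF⟩
    rw [← (bnData_of_mem K memG2).hB.range_hHom (bnData_of_mem K memG2).hT.tab] at hH
    obtain ⟨z, rfl⟩ := hH
    have h1 := hF.2
    rw [eq_zz z, s_hHom T hρR hf] at h1
    obtain ⟨h2, -⟩ := zz_inj (hHom_injective h1)
    refine ⟨z ⟨1, by decide⟩, ?_⟩
    rw [hR_apply, h2, ← eq_zz]
  · rintro ⟨c, rfl⟩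
    refine ⟨hR_mem_H c, (bnData_of_mem K memG2).hB.H_le_group (bnData_of_mem K memG2).hT.tab (hR_mem_H c), ?_⟩
    rw [hR_apply, s_hHom T hρR hf, ← pow_mul, ← pow_add, show m + (m + 1) = 2 * m + 1 by ring, units_pow_card hK]

omit [Fintype K] in
theorem wAct_wG2 : ∀ r, r < chevG2.nroots → wAct chevG2 wG2 r = chevG2.neg r := by decide +kernel

omit [Fintype K] in
theorem neg_negG2 : ∀ r, r < chevG2.nroots → chevG2.neg r < chevG2.nroots ∧ chevG2.neg (chevG2.neg r) = r := by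
  decide +kernel

omit [Fintype K] in
/-- elements of `H n_{w₀}` conjugate `V` into `U`. -/
theorem conj_V_mem_U {h v : GL chevG2.Idx K} (hh : h ∈ chevG2.diagonalSubgroup K)
    (hv : v ∈ chevG2.negUnipotent K) :
    (h * (bnData_of_mem K memG2).hB.nW wG2) * v * (h * (bnData_of_mem K memG2).hB.nW wG2)⁻¹ ∈
      chevG2.posUnipotent K := by
  have key : chevG2.negUnipotent K ≤ (chevG2.posUnipotent K).comap
      (MulAut.conj (h * (bnData_of_mem K memG2).hB.nW wG2)).toMonoidHom := by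
    rw [(bnData_of_mem K memG2).hB.negUnipotent_eq, Subgroup.closure_le]
    rintro _ ⟨r, t, hr, rfl⟩
    obtain ⟨c, -, e⟩ := (bnData_of_mem K memG2).hB.hnW_conj_xg (bnData_of_mem K memG2).hT.tab hh isLong_wG2.lt hr.1
    show (h * (bnData_of_mem K memG2).hB.nW wG2) * (bnData_of_mem K memG2).hB.xg r t *
      (h * (bnData_of_mem K memG2).hB.nW wG2)⁻¹ ∈ chevG2.posUnipotent K
    rw [e t, wAct_wG2 r hr.1]
    refine (bnData_of_mem K memG2).hB.xg_mem_pos ?_ _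
    rw [(bnData_of_mem K memG2).hT.tab.isPos_neg_iff hr.1]
    intro hp
    have h1 := (tabG2.pos_iff r hr.1).1 hp
    have h2 := (tabG2.neg_iff r hr.1).1 hr
    omega
  exact key hv

omit [Fintype K] in
theorem conj_mem_F {g x : GL chevG2.Idx K} (hg : g ∈ T.F) (hx : x ∈ T.F) : g * x * g⁻¹ ∈ T.F :=
  mul_mem (mul_mem hg hx) (inv_mem hg)

variable [CharP K 3] [Fact (Nat.Prime 3)]

include hK hρR hf in
/-- `V ∩ F ≤ G¹`. -/
theorem V_inf_F_le : chevG2.negUnipotent K ⊓ T.F ≤ twistedG2 K (3 ^ m) := by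
  rintro v ⟨hV, hF⟩
  obtain ⟨n, hn, h, hh, rfl⟩ := exists_sO hK T hρR hf
  have h1 := U_inf_F_le hK T hρR hf ⟨conj_V_mem_U hh hV, conj_mem_F T (G1_le_F hK T hρR hf hn) hF⟩
  have e : v = (h * (bnData_of_mem K memG2).hB.nW wG2)⁻¹ * ((h * (bnData_of_mem K memG2).hB.nW wG2) * v *
      (h * (bnData_of_mem K memG2).hB.nW wG2)⁻¹) * (h * (bnData_of_mem K memG2).hB.nW wG2) := by group
  rw [e]
  exact mul_mem (mul_mem (inv_mem hn) h1) hn

include hK hρR hf in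
/-- squares of elements of `H ∩ F` lie in `G¹`. -/
theorem sq_mem_G1 {g : GL chevG2.Idx K} (hg : g ∈ chevG2.diagonalSubgroup K ⊓ T.F) :
    g * g ∈ twistedG2 K (3 ^ m) := by
  let X := bnData_of_mem K memG2
  set v0 : GL chevG2.Idx K := (((sysV hK T hρR hf).word 0 0 1 : ↥(chevG2.group K)) : GL chevG2.Idx K) with hv0
  have hv1 : v0 ∈ twistedG2 K (3 ^ m) := wordV_mem_G1 hK T hρR hf 0 0 1
  have hvF : v0 ∈ T.F := wordV_mem_F hK T hρR hf 0 0 1
  have hvV : v0 ∈ chevG2.negUnipotent K := wordV_mem_V hK T hρR hf 0 0 1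
  have hvne : v0 ≠ 1 := by rw [hv0, coe_wordV_one]; exact xg_mul_ne_one_neg
  obtain ⟨u₁, h1, n, hn, u₂, h2, e⟩ := X.nf_exists hvF.1
  obtain ⟨f1, f2, f3⟩ := T.nf_fixed h1 hn h2 (e ▸ hvF)
  have g1 := U_inf_F_le hK T hρR hf ⟨h1, f1⟩
  have g2 := U_inf_F_le hK T hρR hf ⟨Um_le_U n h2, f3⟩
  have gn : n ∈ twistedG2 K (3 ^ m) := by
    have : n = u₁⁻¹ * v0 * u₂⁻¹ := by rw [e]; group
    rw [this]
    exact mul_mem (mul_mem (inv_mem g1) hv1) (inv_mem g2)
  have hH : n ∉ chevG2.diagonalSubgroup K := by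
    intro hH
    apply hvne
    have : v0 ∈ chevG2.borelSubgroup K ⊓ chevG2.negUnipotent K := by
      refine ⟨?_, hvV⟩
      rw [e]
      exact mul_mem (mul_mem (Base.U_le_B h1) (Base.H_le_B hH)) (Base.U_le_B (Um_le_U n h2))
    rwa [X.hB.B_inf_V X.hT.toTabs, Subgroup.mem_bot] at this
  have S : STab chevG2 rhoG2 T.toFixCore.ρR [wG2] orbsG2 := by
    show STab chevG2 rhoG2 T.ρR [wG2] orbsG2
    rw [hρR]; exact sTabG2
  obtain ⟨h, hh, e'⟩ := exists_eq_mul_nW_of_long T.toFixCore S Cfsg.Agent.Lib.Helper36.checksG2 isLong_wG2 hn f2 hH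
  -- conjugate by `g`
  have k1 := U_inf_F_le hK T hρR hf ⟨X.hB.H_conj_U hg.1 h1, conj_mem_F T hg.2 f1⟩
  have k2 := U_inf_F_le hK T hρR hf ⟨X.hB.H_conj_U hg.1 (Um_le_U n h2), conj_mem_F T hg.2 f3⟩
  have k0 := V_inf_F_le hK T hρR hf ⟨X.hB.H_conj_V hg.1 hvV, conj_mem_F T hg.2 hvF⟩
  have k3 : g * n * g⁻¹ ∈ twistedG2 K (3 ^ m) := by
    have : g * n * g⁻¹ = (g * u₁ * g⁻¹)⁻¹ * (g * v0 * g⁻¹) * (g * u₂ * g⁻¹)⁻¹ := by rw [e]; group
    rw [this]
    exact mul_mem (mul_mem (inv_mem k1) k0) (inv_mem k2)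
  have k4 : g * n * g⁻¹ * n⁻¹ = g * g := by
    have i1 := nW_conj_H_inv memG2 X.hB X.hT.tab isLong_wG2.lt wAct_wG2 neg_negG2 (inv_mem hg.1)
    rw [inv_inv] at i1
    have hcomm : h * g = g * h := by
      have a1 := hh
      have a2 := hg.1
      rw [← X.hB.range_hHom X.hT.tab] at a1 a2
      obtain ⟨z, rfl⟩ := a1
      obtain ⟨z', rfl⟩ := a2
      rw [← map_mul, ← map_mul, mul_comm]
    calc g * n * g⁻¹ * n⁻¹ = g * (h * (X.hB.nW wG2 * g⁻¹ * (X.hB.nW wG2)⁻¹) * h⁻¹) := by rw [e']; group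
      _ = g * (h * g * h⁻¹) := by rw [i1]
      _ = g * g := by rw [hcomm]; group
  rw [← k4]
  exact mul_mem k3 (inv_mem gn)

end Cfsg.Agent.Lib.Lead.Ree
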