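import Cfsg.Agent.Lib.Lead.ReeInv

set_option autoImplicit false

/-!
# `²G₂`: `H¹ = H ∩ F` is cyclic of order `q - 1`
-/

namespace Cfsg.Agent.Lib.Lead.Ree

open Cfsg.Lie Matrix Cfsg.Agent.Lib.Helper6 Cfsg.Agent.Lib.Helper18 Cfsg.Agent.Lib.Lead.ChevSpecial
  Cfsg.Agent.Lib.Lead.FixTwist Cfsg.Agent.Lib.Helper17

theorem exists_q (m : ℕ) : ∃ j, 3 ^ (2 * m + 1) = 4 * j + 3 := by
  have h : 3 ^ (2 * m + 1) % 4 = 3 := by
    rw [pow_succ, pow_mul, Nat.mul_mod, Nat.pow_mod]; simp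
  exact ⟨3 ^ (2 * m + 1) / 4, by omega⟩

variable {K : Type*} [Field K] [Fintype K] {m : ℕ} (hK : Fintype.card K = 3 ^ (2 * m + 1))
  (T : STwist (bnData_of_mem K memG2))
  (hρR : T.ρR = rhoRG2) (hf : ∀ r t, T.f r t = t ^ (3 ^ (m + kG2 r))) [CharP K 3] [Fact (Nat.Prime 3)]

include hK T hρR hf in
theorem hR_mem_G1 (c : Kˣ) : hR K m c ∈ twistedG2 K (3 ^ m) := by
  obtain ⟨j, hj⟩ := exists_q m
  have h1 : c ^ (4 * j + 2) = 1 := by
    have := units_pow_card hK c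
    rw [hj, show 4 * j + 3 = (4 * j + 2) + 1 by ring, pow_succ] at this
    exact mul_eq_right.mp this
  have h2 : c ^ (2 * j + 1) = 1 ∨ c ^ (2 * j + 1) = -1 := by
    have : ((c ^ (2 * j + 1) : Kˣ) : K) * ((c ^ (2 * j + 1) : Kˣ) : K) = 1 := by
      rw [← Units.val_mul, ← pow_add, show 2 * j + 1 + (2 * j + 1) = 4 * j + 2 by ring, h1, Units.val_one]
    rcases mul_self_eq_one_iff.mp this with h | h
    · exact Or.inl (Units.ext h)
    · exact Or.inr (Units.ext (by rw [h]; simp))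
  have h3 : c = c ^ (2 * j + 1) * ((c ^ j)⁻¹ * (c ^ j)⁻¹) := by
    rw [pow_succ, two_mul, pow_add]
    rw [mul_comm _ c, mul_assoc]
    simp
  have h4 : hR K m (c ^ j)⁻¹ * hR K m (c ^ j)⁻¹ ∈ twistedG2 K (3 ^ m) :=
    sq_mem_G1 hK T hρR hf ((mem_H_inf_F_iff hK T hρR hf _).2 ⟨_, rfl⟩)
  rw [h3, map_mul, map_mul]
  refine mul_mem ?_ h4
  rcases h2 with h | h <;> rw [h]
  · rw [map_one]; exact one_mem _
  · exact hR_neg_one_mem_G1 hK T hρR hf

include hK hρR hf in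
theorem H_inf_G1_eq : chevG2.diagonalSubgroup K ⊓ twistedG2 K (3 ^ m) = chevG2.diagonalSubgroup K ⊓ T.F := by
  refine le_antisymm (inf_le_inf_left _ (G1_le_F hK T hρR hf)) (le_inf inf_le_left ?_)
  intro g hg
  obtain ⟨c, rfl⟩ := (mem_H_inf_F_iff hK T hρR hf g).1 hg
  exact hR_mem_G1 hK T hρR hf c

include hK T hρR hf in
theorem range_hR : (hR K m).range = chevG2.diagonalSubgroup K ⊓ twistedG2 K (3 ^ m) := by
  rw [H_inf_G1_eq hK T hρR hf]
  ext g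
  rw [mem_H_inf_F_iff hK T hρR hf, MonoidHom.mem_range]

include hK T hρR hf in
theorem card_H1 : Nat.card ↥(chevG2.diagonalSubgroup K ⊓ twistedG2 K (3 ^ m)) = 3 ^ (2 * m + 1) - 1 := by
  classical
  rw [← range_hR hK T hρR hf, ← Nat.card_congr (MonoidHom.ofInjective (hR_injective (K := K) (m := m))).toEquiv,
    Nat.card_eq_fintype_card, Fintype.card_units, hK]

include hK T hρR hf in
theorem isCyclic_H1 : IsCyclic ↥(chevG2.diagonalSubgroup K ⊓ twistedG2 K (3 ^ m)) := by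
  rw [← range_hR hK T hρR hf]
  exact isCyclic_of_surjective (hR K m).rangeRestrict (hR K m).rangeRestrict_surjective

end Cfsg.Agent.Lib.Lead.Ree
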