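import Cfsg.Agent.Lib.Lead.ReeH

set_option autoImplicit false

/-!
# `²G₂`: the involution of `H ∩ F` lies in `G¹`
-/

namespace Cfsg.Agent.Lib.Lead.ChevSpecial

open Cfsg.Lie Cfsg.Agent.Lib.Helper18 Cfsg.Agent.Lib.Helper36

/-! ### products of many column functions, normalising after each factor -/

noncomputable def applyFsN (fs : List (Tm → List Tm)) (L : List Tm) : List Tm :=
  List.rec L (fun f _ ih => normK (flatMapR f ih)) fs

theorem applyFsN_cons (f : Tm → List Tm) (fs : List (Tm → List Tm)) (L : List Tm) :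
    applyFsN (f :: fs) L = normL ((applyFsN fs L).flatMap f) := by
  have : applyFsN (f :: fs) L = normK (flatMapR f (applyFsN fs L)) := rfl
  rw [this, flatMapR_eq, normK_eq]

theorem j_of_mem_addTerm (L : List Tm) (x y : Tm) (h : y ∈ addTerm L x) : y.j = x.j ∨ ∃ z ∈ L, y.j = z.j := by
  induction L with
  | nil =>
    rw [addTerm_nil, List.mem_singleton] at h
    exact Or.inl (by rw [h])
  | cons a L ih =>
    rw [addTerm_cons] at h
    generalize (Bool.rec false (Bool.rec false (Nat.beq a.b x.b) (Nat.beq a.a x.a)) (Nat.beq a.j x.j) : Bool) = b at h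
    cases b
    · change y ∈ a :: addTerm L x at h
      rcases List.mem_cons.mp h with h | h
      · exact Or.inr ⟨a, List.mem_cons_self, by rw [h]⟩
      · rcases ih h with h | ⟨z, hz, h⟩
        · exact Or.inl h
        · exact Or.inr ⟨z, List.mem_cons_of_mem _ hz, h⟩
    · change y ∈ Tm.mk a.j (iadd a.c x.c) a.a a.b :: L at h
      rcases List.mem_cons.mp h with h | h
      · exact Or.inr ⟨a, List.mem_cons_self, by rw [h]⟩
      · exact Or.inr ⟨y, List.mem_cons_of_mem _ h, rfl⟩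

theorem j_of_mem_normL (L : List Tm) (y : Tm) (h : y ∈ normL L) : ∃ z ∈ L, y.j = z.j := by
  induction L generalizing y with
  | nil => exact absurd h List.not_mem_nil
  | cons x L ih =>
    have e : normL (x :: L) = addTerm (normL L) x := rfl
    rw [e] at h
    rcases j_of_mem_addTerm _ _ _ h with h | ⟨z, hz, h⟩
    · exact ⟨x, List.mem_cons_self, h⟩
    · obtain ⟨w, hw, h'⟩ := ih z hz
      exact ⟨w, List.mem_cons_of_mem _ hw, h.trans h'⟩

section mat

variable {F : Type*} [Field F] (p : ℕ) [CharP F p] (t u : F) {ι : Type*} [Fintype ι] [DecidableEq ι]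
  (code : ι → ℕ) (dim : ℕ)

omit [CharP F p] in
theorem applyFsN_sound (fs : List (Tm → List Tm)) (Ms : List (Matrix ι ι F))
    (h : List.Forall₂ (SoundCol t u code dim) fs Ms) (L : List Tm) (hL : ∀ y ∈ L, y.j < dim) :
    (∀ y ∈ applyFsN fs L, y.j < dim) ∧
      Ms.prod.mulVec (sval t u code L) = sval t u code (applyFsN fs L) := by
  induction h with
  | nil => exact ⟨hL, by simp [applyFsN]⟩
  | @cons f M fs Ms hfM _ ih =>
    obtain ⟨ih1, ih2⟩ := ih
    constructor
    · intro y hy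
      rw [applyFsN_cons] at hy
      obtain ⟨z, hz, e⟩ := j_of_mem_normL _ _ hy
      rw [List.mem_flatMap] at hz
      obtain ⟨x, hx, hz⟩ := hz
      rw [e]
      exact (hfM x (ih1 x hx)).1 z hz
    · rw [List.prod_cons, ← Matrix.mulVec_mulVec, ih2, mulVec_sval, applyFsN_cons, sval_normL, sval_flatMap]
      congr 1
      apply List.map_congr_left
      intro x hx
      exact (hfM x (ih1 x hx)).2

noncomputable def checkFsNP (p dim : ℕ) (fs gs : List (Tm → List Tm)) : Bool :=
  allN (fun j => eqSVP p (applyFsN fs [Tm.mk j 2 0 0]) (applyFsN gs [Tm.mk j 2 0 0])) dim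

theorem checkFsNP_sound (hcode : Function.Injective code) (hdim : ∀ i, code i < dim)
    (fs gs : List (Tm → List Tm)) (Ms Ms' : List (Matrix ι ι F))
    (hf : List.Forall₂ (SoundCol t u code dim) fs Ms) (hg : List.Forall₂ (SoundCol t u code dim) gs Ms')
    (h : checkFsNP p dim fs gs = true) : Ms.prod = Ms'.prod := by
  apply mat_ext code dim hcode hdim
  intro j hj
  unfold checkFsNP at h
  rw [allN_iff] at h
  have h1 := sval_eq_of_eqSVP p t u code _ _ (h j hj)
  have hL : ∀ y ∈ [Tm.mk j 2 0 0], y.j < dim := by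
    intro y hy
    rw [List.mem_singleton] at hy
    rw [hy]; exact hj
  have h2 := (applyFsN_sound t u code dim fs Ms hf _ hL).2
  have h3 := (applyFsN_sound t u code dim gs Ms' hg _ hL).2
  rw [sval_singleton, val_unit] at h2 h3
  rw [h2, h3, h1]

end mat

/-- comparison modulo `p` of two words in root elements with integer coefficients (in sign-magnitude code) -/
noncomputable def wchk (p : ℕ) (T : Fast) (W W' : List (ℕ × ℕ)) : Bool :=
  checkFsNP p (Nat.add T.l T.n) (W.map fun x => T.xcolK x.1 [⟨x.2, 0, 0⟩]) (W'.map fun x => T.xcolK x.1 [⟨x.2, 0, 0⟩])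

variable {F : Type*} [Field F] {D : ChevalleyDatum} {T : Fast}

theorem forall₂_word (hA : Agree D T) (W : List (ℕ × ℕ)) (hW : ∀ x ∈ W, x.1 < D.nroots) :
    List.Forall₂ (SoundCol (0 : F) (0 : F) (code D) (D.rank + D.nroots)) (W.map fun x => T.xcolK x.1 [⟨x.2, 0, 0⟩])
      (W.map fun x => D.x F x.1 ((ival x.2 : ℤ) : F)) := by
  induction W with
  | nil => exact .nil
  | cons a W ih =>
    rw [List.map_cons, List.map_cons]
    refine .cons ?_ (ih fun x hx => hW x (List.mem_cons_of_mem _ hx))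
    have := xcol_sound D (0 : F) (0 : F) hA a.1 (hW a List.mem_cons_self) [⟨a.2, 0, 0⟩]
    rw [pval_single, pow_zero, mul_one, mul_one] at this
    rw [xcolK_fun]
    exact this

theorem wordMat_eq_of_wchk (p : ℕ) [CharP F p] (hA : Agree D T) (W W' : List (ℕ × ℕ))
    (hW : ∀ x ∈ W, x.1 < D.nroots) (hW' : ∀ x ∈ W', x.1 < D.nroots) (h : wchk p T W W' = true) :
    D.wordMat F (W.map fun x => (x.1, ((ival x.2 : ℤ) : F))) =
      D.wordMat F (W'.map fun x => (x.1, ((ival x.2 : ℤ) : F))) := by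
  unfold wchk at h
  rw [hA.hl, hA.hn] at h
  have := checkFsNP_sound p (0 : F) (0 : F) (code D) (D.rank + D.nroots) (code_injective D) (code_lt D) _ _ _ _
    (forall₂_word hA W hW) (forall₂_word hA W' hW') h
  unfold ChevalleyDatum.wordMat
  rw [List.map_map, List.map_map]
  exact this

end Cfsg.Agent.Lib.Lead.ChevSpecial

namespace Cfsg.Agent.Lib.Lead.Ree

open Cfsg.Lie Matrix Cfsg.Agent.Lib.Helper6 Cfsg.Agent.Lib.Helper18 Cfsg.Agent.Lib.Lead.ChevSpecial
  Cfsg.Agent.Lib.Lead.FixTwist Cfsg.Agent.Lib.Helper17 Cfsg.Agent.Lib.Helper36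

def invW : List (ℕ × ℕ) :=
  [(7,0),(6,0),(8,0),(9,2),(10,0),(11,2),
   (4,0),(5,0),(3,0),(2,3),(1,0),(0,3),
   (7,2),(6,2),(8,4),(9,4),(10,2),(11,2),
   (4,2),(5,2),(3,5),(2,4),(1,3),(0,2)]

def invW' : List (ℕ × ℕ) :=
  [(7,3),(4,2),(7,3),(7,3),(4,2),(7,3),(6,3),(5,2),(6,3),(6,3),(5,2),(6,3)]

theorem invW_chk : wchk 3 fastG2 invW invW' = true := by decide +kernel

variable {K : Type*} [Field K]

theorem invW_eq (m : ℕ) : reeWordU (3 ^ m) (0 : K) 0 1 ++ reeWordV (3 ^ m) (0 : K) 0 1 ++ reeWordU (3 ^ m) (1 : K) 1 1 ++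
    reeWordV (3 ^ m) (-1 : K) 1 (-1) = invW.map fun x => (x.1, ((ival x.2 : ℤ) : K)) := by
  have i0 : ival 0 = 0 := by decide
  have i2 : ival 2 = 1 := by decide
  have i3 : ival 3 = -1 := by decide
  have i4 : ival 4 = 2 := by decide
  have i5 : ival 5 = -2 := by decide
  have ho : Odd (3 ^ m) := Odd.pow (by decide)
  have h1 : (-1 : K) ^ 3 ^ m = -1 := ho.neg_one_pow
  have h2 : (-1 : K) ^ (3 ^ m + 1) = 1 := by rw [pow_succ, h1]; simp
  have h3 : (-1 : K) ^ (2 * 3 ^ m + 1) = -1 := by rw [pow_succ, pow_mul]; simp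
  have h0 : (0 : K) ^ 3 ^ m = 0 := zero_pow (by positivity)
  simp only [reeWordU, reeWordV, ChevalleyDatum.negWord, invW, List.map_cons, List.map_nil, i0, i2, i3, i4, i5, h0, h1,
    h2, h3, one_pow, g2a, g2b, g2ab, g2aab, g2aaab, g2aaabb, List.cons_append, List.nil_append, Int.cast_zero,
    Int.cast_one, Int.cast_neg, Int.cast_ofNat, zero_pow (Nat.succ_ne_zero _), add_zero, zero_add, neg_zero, neg_neg]
  rw [show chevG2.negIdx.getD 7 0 = 4 from rfl, show chevG2.negIdx.getD 6 0 = 5 from rfl,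
    show chevG2.negIdx.getD 8 0 = 3 from rfl, show chevG2.negIdx.getD 9 0 = 2 from rfl,
    show chevG2.negIdx.getD 10 0 = 1 from rfl, show chevG2.negIdx.getD 11 0 = 0 from rfl]
  norm_num

theorem invW'_eq : chevG2.hWord 7 (-1 : K) ++ chevG2.hWord 6 (-1 : K) =
    invW'.map fun x => (x.1, ((ival x.2 : ℤ) : K)) := by
  have i2 : ival 2 = 1 := by decide
  have i3 : ival 3 = -1 := by decide
  simp only [ChevalleyDatum.hWord, ChevalleyDatum.nWord, invW', List.map_cons, List.map_nil, i2, i3,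
    List.cons_append, List.nil_append, Int.cast_one, Int.cast_neg, inv_neg, inv_one, neg_neg]
  rw [show chevG2.neg 7 = 4 from rfl, show chevG2.neg 6 = 5 from rfl]

variable [Fintype K] {m : ℕ} (hK : Fintype.card K = 3 ^ (2 * m + 1))
  (T : STwist (bnData_of_mem K memG2))
  (hρR : T.ρR = rhoRG2) (hf : ∀ r t, T.f r t = t ^ (3 ^ (m + kG2 r))) [CharP K 3] [Fact (Nat.Prime 3)]

include hK T hρR hf in
theorem hR_neg_one_mem_G1 : hR K m (-1) ∈ twistedG2 K (3 ^ m) := by
  have e : hR K m (-1) = (((sysU hK T hρR hf).word 0 0 1 : ↥(chevG2.group K)) : GL chevG2.Idx K) *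
      (((sysV hK T hρR hf).word 0 0 1 : ↥(chevG2.group K)) : GL chevG2.Idx K) *
      (((sysU hK T hρR hf).word 1 1 1 : ↥(chevG2.group K)) : GL chevG2.Idx K) *
      (((sysV hK T hρR hf).word (-1) 1 (-1) : ↥(chevG2.group K)) : GL chevG2.Idx K) := by
    apply Units.ext
    rw [Units.val_mul, Units.val_mul, Units.val_mul, coe_wordU, coe_wordU, coe_wordV, coe_wordV,
      ← Cfsg.Agent.Lib.Helper18.wordMat_append, ← Cfsg.Agent.Lib.Helper18.wordMat_append,
      ← Cfsg.Agent.Lib.Helper18.wordMat_append, invW_eq,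
      wordMat_eq_of_wchk 3 agreeG2 invW invW' (by decide) (by decide) invW_chk, ← invW'_eq,
      Cfsg.Agent.Lib.Helper18.wordMat_append, hR_apply, (Odd.pow (by decide) : Odd (3 ^ m)).neg_one_pow, hHom_zz,
      Units.val_mul, Base.coe_hg, Base.coe_hg]
    simp only [Units.val_neg, Units.val_one]
    rfl
  rw [e]
  exact mul_mem (mul_mem (mul_mem (wordU_mem_G1 hK T hρR hf _ _ _) (wordV_mem_G1 hK T hρR hf _ _ _))
    (wordU_mem_G1 hK T hρR hf _ _ _)) (wordV_mem_G1 hK T hρR hf _ _ _)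

end Cfsg.Agent.Lib.Lead.Ree
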