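import Cfsg.Agent.Lib.Lead.ReeH1
import Cfsg.Agent.Lib.Helper18.FixOrder
import Cfsg.Agent.Lib.Helper18.FixCoreInst

set_option autoImplicit false

/-!
# `²G₂`: `N¹/H¹`, the order, the core of `B¹`
-/

namespace Cfsg.Agent.Lib.Lead.Ree

open Cfsg.Lie Matrix Cfsg.Agent.Lib.Helper6 Cfsg.Agent.Lib.Helper18 Cfsg.Agent.Lib.Lead.ChevSpecial
  Cfsg.Agent.Lib.Lead.FixTwist Cfsg.Agent.Lib.Helper17

/-- the longest element as a permutation of the roots -/
def w0 : Equiv.Perm (Fin chevG2.nroots) := wPerm tabG2 wG2 isLong_wG2.lt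

theorem w0_apply (r : Fin chevG2.nroots) : ((w0 r : Fin chevG2.nroots) : ℕ) = chevG2.neg r := wAct_wG2 r r.2

theorem w0_mul_self : w0 * w0 = 1 := by
  ext r
  rw [Equiv.Perm.mul_apply, w0_apply, w0_apply, (neg_negG2 r r.2).2]
  rfl

theorem w0_ne_one : w0 ≠ 1 := by
  intro h
  have := congrArg (fun π : Equiv.Perm (Fin chevG2.nroots) => ((π ⟨0, by decide⟩ : Fin chevG2.nroots) : ℕ)) h
  simp only [w0_apply] at this
  exact absurd this (by decide)

theorem mem_closure_w0 (π : Equiv.Perm (Fin chevG2.nroots)) : π ∈ Subgroup.closure {w0} ↔ π = 1 ∨ π = w0 := by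
  constructor
  · intro h
    induction h using Subgroup.closure_induction with
    | mem x hx => exact Or.inr hx
    | one => exact Or.inl rfl
    | mul x y _ _ hx hy =>
      rcases hx with rfl | rfl <;> rcases hy with rfl | rfl
      · exact Or.inl (one_mul 1)
      · exact Or.inr (one_mul _)
      · exact Or.inr (mul_one _)
      · exact Or.inl w0_mul_self
    | inv x _ hx =>
      rcases hx with rfl | rfl
      · exact Or.inl inv_one
      · exact Or.inr (inv_eq_of_mul_eq_one_right w0_mul_self)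
  · rintro (rfl | rfl)
    · exact one_mem _
    · exact Subgroup.subset_closure rfl

theorem card_closure_w0 : Nat.card ↥(Subgroup.closure {w0}) = 2 := by
  rw [← Subgroup.zpowers_eq_closure, Nat.card_zpowers]
  exact orderOf_eq_prime (by rw [sq]; exact w0_mul_self) w0_ne_one

open Classical in
theorem invc_w0 : invc (fun r : Fin chevG2.nroots => chevG2.IsPosRoot r) w0 = 6 := by
  unfold invc
  have : (Finset.univ.filter fun r : Fin chevG2.nroots => chevG2.IsPosRoot r ∧ ¬ chevG2.IsPosRoot (w0 r : Fin chevG2.nroots))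
      = Finset.univ.filter fun r : Fin chevG2.nroots => 6 ≤ (r : ℕ) := by
    ext r
    simp only [Finset.mem_filter, Finset.mem_univ, true_and]
    rw [w0_apply, tabG2.isPos_neg_iff r.2, not_not, and_self, tabG2.pos_iff r r.2]
    rfl
  rw [this]
  decide

variable {K : Type*} [Field K] [Fintype K] {m : ℕ} (hK : Fintype.card K = 3 ^ (2 * m + 1))
  (T : STwist (bnData_of_mem K memG2))
  (hρR : T.ρR = rhoRG2) (hf : ∀ r t, T.f r t = t ^ (3 ^ (m + kG2 r))) [CharP K 3] [Fact (Nat.Prime 3)]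

theorem W1gens_eq : FixB.W1gens (fixBN hK T hρR hf) = {w0} := by
  ext π
  constructor
  · rintro ⟨O, hO, rfl⟩
    have : O = wG2 := List.mem_singleton.mp hO
    subst this
    rfl
  · rintro rfl
    exact ⟨wG2, List.mem_singleton.mpr rfl, rfl⟩

include hK T hρR hf in
theorem exists_hom_N1 : ∃ φ : ↥(chevG2.monomialSubgroup K ⊓ twistedG2 K (3 ^ m)) →* Multiplicative (ZMod 2),
    Function.Surjective φ ∧ φ.ker = (chevG2.diagonalSubgroup K ⊓ twistedG2 K (3 ^ m)).subgroupOf
      (chevG2.monomialSubgroup K ⊓ twistedG2 K (3 ^ m)) := by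
  have : Fact (Nat.Prime 2) := ⟨Nat.prime_two⟩
  have e : ↥(Subgroup.closure (FixB.W1gens (fixBN hK T hρR hf))) ≃* Multiplicative (ZMod 2) :=
    mulEquivOfPrimeCardEq (p := 2) (by rw [W1gens_eq]; exact card_closure_w0) (by simp)
  exact FixB.exists_hom_of_equiv (fixBN hK T hρR hf) e

theorem cn_chain : (fixBN hK T hρR hf).cn (fixBN hK T hρR hf).chain = (fixBN hK T hρR hf).sO wG2 := by
  show (fixBN hK T hρR hf).cn [wG2] = _
  simp [FixGrp.cn]

theorem Um_sO : Um chevG2 K ((fixBN hK T hρR hf).sO wG2) = chevG2.posUnipotent K := by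
  rw [← cn_chain]
  exact FixB.Um_cn (fixBN hK T hρR hf)

include hK T hρR hf in
theorem card_G1 : Nat.card ↥(twistedG2 K (3 ^ m)) =
    (3 ^ (2 * m + 1)) ^ 3 * (3 ^ (2 * m + 1) - 1) * ((3 ^ (2 * m + 1)) ^ 3 + 1) := by
  classical
  have hq : ∀ O (hO : O ∈ (fixBN hK T hρR hf).orbs),
      Nat.card ↥(Um chevG2 K ((fixBN hK T hρR hf).sO O) ⊓ (fixBN hK T hρR hf).F) ^ 2 =
      (3 ^ (2 * m + 1)) ^ invc (fun r : Fin chevG2.nroots => chevG2.IsPosRoot r)
        ((bnData_of_mem K memG2).act ((fixBN hK T hρR hf).sO O) ((fixBN hK T hρR hf).sO_mem_N hO)) := by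
    intro O hO
    have : O = wG2 := List.mem_singleton.mp hO
    subst this
    rw [(fixBN hK T hρR hf).act_sO hO, Um_sO, fixBN_F, card_U_inf_F hK T hρR hf]
    have : invc (fun r : Fin chevG2.nroots => chevG2.IsPosRoot r)
        (wPerm (bnData_of_mem K memG2).hT.tab wG2 ((fixBN hK T hρR hf).orb_lt wG2 hO)) = 6 := invc_w0
    rw [this, ← pow_mul]
  have h := FixB.card_G1_sq (fixBN hK T hρR hf) hq
  rw [fixBN_G1, card_H1 hK T hρR hf, W1gens_eq] at h
  have hfil : (Finset.univ.filter fun π : Equiv.Perm (Fin chevG2.nroots) => π ∈ Subgroup.closure {w0}) = {1, w0} := by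
    ext π
    simp [mem_closure_w0]
  rw [hfil, Finset.sum_pair (Ne.symm w0_ne_one), invc_w0] at h
  have h1 : invc (fun r : Fin chevG2.nroots => chevG2.IsPosRoot r) 1 = 0 := by simp [invc]
  rw [h1, pow_zero, Nat.sqrt_one, show chevG2.nroots / 2 = 6 from rfl,
    show (3 ^ (2 * m + 1)) ^ 6 = ((3 ^ (2 * m + 1)) ^ 3) ^ 2 by rw [← pow_mul (3 ^ (2 * m + 1)) 3 2], Nat.sqrt_eq'] at h
  rw [h, add_comm 1]

include hK T hρR hf in
theorem normalCore_B1 :
    ((chevG2.borelSubgroup K ⊓ twistedG2 K (3 ^ m)).subgroupOf (twistedG2 K (3 ^ m))).normalCore = ⊥ := by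
  refine FixB.normalCore_eq_bot (fixBN hK T hρR hf) (cartan_neg_of_mem memG2) ?_
  intro i hi
  have hpos : ∀ p ∈ reeWordU (3 ^ m) (1 : K) 0 0, chevG2.IsPosRoot p.1 := by
    intro p hp
    simp only [reeWordU, List.mem_cons, List.not_mem_nil, or_false] at hp
    rcases hp with rfl | rfl | rfl | rfl | rfl | rfl
    · exact (by decide : chevG2.IsPosRoot 7)
    · exact (by decide : chevG2.IsPosRoot 6)
    · exact (by decide : chevG2.IsPosRoot 8)
    · exact (by decide : chevG2.IsPosRoot 9)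
    · exact (by decide : chevG2.IsPosRoot 10)
    · exact (by decide : chevG2.IsPosRoot 11)
  refine ⟨(bnData_of_mem K memG2).hB.wg (reeWordU (3 ^ m) 1 0 0),
    ⟨(bnData_of_mem K memG2).hB.wg_mem_U _ hpos,
      Subgroup.subset_closure ⟨_, ⟨1, 0, 0, Or.inl rfl⟩, (bnData_of_mem K memG2).hB.coe_wg _⟩⟩, ?_⟩
  apply (bnData_of_mem K memG2).hB.wg_not_mem_Up (bnData_of_mem K memG2).hT hi _ hpos
  have hi' : i = 0 ∨ i = 1 := by
    have : i < 2 := hi
    omega
  rcases hi' with rfl | rfl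
  · unfold Base.coefW
    rw [show chevG2.simple 0 = 7 from rfl]
    simp [reeWordU, g2a, g2b, g2ab, g2aab, g2aaab, g2aaabb]
  · unfold Base.coefW
    rw [show chevG2.simple 1 = 6 from rfl]
    simp [reeWordU, g2a, g2b, g2ab, g2aab, g2aaab, g2aaabb]

end Cfsg.Agent.Lib.Lead.Ree
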