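import Cfsg.Agent.Lib.Lead.ReeRows1

set_option autoImplicit false

/-!
# `²G₂(q)` is perfect for `q > 3`
-/

namespace Cfsg.Agent.Lib.Lead.Ree

open Cfsg.Lie Matrix Cfsg.Agent.Lib.Helper6 Cfsg.Agent.Lib.Helper18 Cfsg.Agent.Lib.Lead.ChevSpecial
  Cfsg.Agent.Lib.Lead.FixTwist Cfsg.Agent.Lib.Helper17

section general

open scoped commutatorElement

variable {G : Type*} [Group G] (H : Subgroup G)

/-- the derived subgroup of a subgroup, in the ambient group -/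
def der : Subgroup G := (commutator ↥H).map H.subtype

theorem comm_mem_der {a b : G} (ha : a ∈ H) (hb : b ∈ H) : a * b * a⁻¹ * b⁻¹ ∈ der H :=
  ⟨⁅(⟨a, ha⟩ : ↥H), ⟨b, hb⟩⁆, by
    rw [commutator_def]
    exact Subgroup.commutator_mem_commutator (Subgroup.mem_top _) (Subgroup.mem_top _), rfl⟩

theorem conj_mem_der {a d : G} (ha : a ∈ H) (hd : d ∈ der H) : a * d * a⁻¹ ∈ der H := by
  obtain ⟨x, hx, rfl⟩ := hd
  exact ⟨⟨a, ha⟩ * x * ⟨a, ha⟩⁻¹, (inferInstance : (commutator ↥H).Normal).conj_mem x hx _, rfl⟩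

theorem commutator_eq_top_of_le_der (h : H ≤ der H) : commutator ↥H = ⊤ := by
  rw [eq_top_iff]
  rintro ⟨x, hx⟩ -
  obtain ⟨y, hy, e⟩ := h hx
  have : y = ⟨x, hx⟩ := Subtype.ext e
  rwa [this] at hy

end general

variable {K : Type*} [Field K] [Fintype K] {m : ℕ} (hK : Fintype.card K = 3 ^ (2 * m + 1))
  (T : STwist (bnData_of_mem K memG2))
  (hρR : T.ρR = rhoRG2) (hf : ∀ r t, T.f r t = t ^ (3 ^ (m + kG2 r))) [CharP K 3] [Fact (Nat.Prime 3)]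

/-- the Ree word in `GL` -/
noncomputable def Wd (t u v : K) : GL chevG2.Idx K :=
  (((sysU2 hK T hρR hf).word t u v : ↥(chevG2.group K)) : GL chevG2.Idx K)

theorem Wd_mem_G1 (t u v : K) : Wd hK T hρR hf t u v ∈ twistedG2 K (3 ^ m) := wordU_mem_G1 hK T hρR hf t u v

theorem exists_Wd {g : GL chevG2.Idx K} (hg : g ∈ chevG2.posUnipotent K ⊓ T.F) :
    ∃ t u v, g = Wd hK T hρR hf t u v := by
  obtain ⟨t, u, v, e⟩ := exists_word hK T hρR hf (g := ⟨g, hg.2.1⟩) hg.1 hg.2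
  exact ⟨t, u, v, congrArg (fun g : ↥(chevG2.group K) => (g : GL chevG2.Idx K)) e⟩

theorem Wd_mem (t u v : K) : Wd hK T hρR hf t u v ∈ chevG2.posUnipotent K ⊓ T.F :=
  ⟨wordU_mem_U hK T hρR hf t u v, wordU_mem_F hK T hρR hf t u v⟩

theorem Wd_mul_coord {t u v t' u' v' t'' u'' v'' : K}
    (h : Wd hK T hρR hf t u v * Wd hK T hρR hf t' u' v' = Wd hK T hρR hf t'' u'' v'') : t'' = t + t' :=
  (sysU2 hK T hρR hf).word_mul_coord (huniqU2 hK T hρR hf) (Subtype.ext h)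

theorem Wd_zero_mul (u v u' v' : K) :
    Wd hK T hρR hf 0 u v * Wd hK T hρR hf 0 u' v' = Wd hK T hρR hf 0 (u + u') (v + v') :=
  congrArg (fun g : ↥(chevG2.group K) => (g : GL chevG2.Idx K)) ((sysU2 hK T hρR hf).word_zero_mul u v u' v')

theorem conj_Wd (c : Kˣ) (t u v : K) : hR K m c * Wd hK T hρR hf t u v * (hR K m c)⁻¹ =
    Wd hK T hρR hf ((chB m c : K) * t) ((ch3 m c : K) * u) ((c : K) * v) :=
  congrArg (fun g : ↥(chevG2.group K) => (g : GL chevG2.Idx K)) (conj_word hK T hρR hf c t u v)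

include hK in
omit [CharP K 3] [Fact (Nat.Prime 3)] in
theorem exists_ch3_ne_one (hm : 1 ≤ m) : ∃ c : Kˣ, ch3 m c ≠ 1 := by
  obtain ⟨g, hg⟩ := IsCyclic.exists_generator (α := Kˣ)
  refine ⟨g, fun h => ?_⟩
  have h1 := sq_eq_one_of_ch3 hK h
  have h2 : orderOf g = Nat.card Kˣ := orderOf_eq_card_of_forall_mem_zpowers hg
  rw [card_units hK] at h2
  have h3 : orderOf g ∣ 2 := orderOf_dvd_of_pow_eq_one h1
  have h4 := Nat.le_of_dvd (by norm_num) h3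
  have h5 : 3 ^ 3 ≤ 3 ^ (2 * m + 1) := Nat.pow_le_pow_right (by norm_num) (by omega)
  omega

theorem Wd_zero_mem_der (hm : 1 ≤ m) (u v : K) : Wd hK T hρR hf 0 u v ∈ der (twistedG2 K (3 ^ m)) := by
  obtain ⟨c, hc⟩ := exists_ch3_ne_one hK hm
  have hc1 : c ≠ 1 := by
    rintro rfl
    exact hc (by simp [ch3])
  have a1 : ((ch3 m c : Kˣ) : K) - 1 ≠ 0 := fun h => hc (Units.ext (by rw [Units.val_one]; exact sub_eq_zero.mp h))
  have a2 : ((c : Kˣ) : K) - 1 ≠ 0 := fun h => hc1 (Units.ext (by rw [Units.val_one]; exact sub_eq_zero.mp h))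
  have h1 := comm_mem_der (twistedG2 K (3 ^ m)) (hR_mem_G1 hK T hρR hf c)
    (Wd_mem_G1 hK T hρR hf 0 (u / (((ch3 m c : Kˣ) : K) - 1)) (v / (((c : Kˣ) : K) - 1)))
  rw [conj_Wd, mul_zero] at h1
  have h2 : Wd hK T hρR hf 0 u v * Wd hK T hρR hf 0 (u / (((ch3 m c : Kˣ) : K) - 1)) (v / (((c : Kˣ) : K) - 1)) =
      Wd hK T hρR hf 0 (((ch3 m c : Kˣ) : K) * (u / (((ch3 m c : Kˣ) : K) - 1)))
        (((c : Kˣ) : K) * (v / (((c : Kˣ) : K) - 1))) := by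
    rw [Wd_zero_mul]
    congr 1 <;> field_simp <;> ring
  rw [← h2, mul_inv_cancel_right] at h1
  exact h1

omit [Fintype K] [CharP K 3] [Fact (Nat.Prime 3)] in
theorem chB_neg_one : chB m (-1 : Kˣ) = -1 := by
  unfold chB
  rw [(Odd.pow (by decide) : Odd (3 ^ (m + 1))).neg_one_pow]
  simp

theorem exists_Wd_mem_der (t : K) : ∃ u v, Wd hK T hρR hf t u v ∈ der (twistedG2 K (3 ^ m)) := by
  have h1 := comm_mem_der (twistedG2 K (3 ^ m)) (hR_mem_G1 hK T hρR hf (-1)) (Wd_mem_G1 hK T hρR hf t 0 0)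
  have h2 : hR K m (-1) * Wd hK T hρR hf t 0 0 * (hR K m (-1))⁻¹ * (Wd hK T hρR hf t 0 0)⁻¹ ∈
      chevG2.posUnipotent K ⊓ T.F := by
    rw [conj_Wd]
    exact mul_mem (Wd_mem hK T hρR hf _ _ _) (inv_mem (Wd_mem hK T hρR hf _ _ _))
  obtain ⟨t1, u1, v1, e⟩ := exists_Wd hK T hρR hf h2
  have h3 : Wd hK T hρR hf t1 u1 v1 * Wd hK T hρR hf t 0 0 =
      Wd hK T hρR hf ((chB m (-1 : Kˣ) : K) * t) ((ch3 m (-1 : Kˣ) : K) * 0) (((-1 : Kˣ) : K) * 0) := by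
    rw [← e, ← conj_Wd]; group
  have h4 := Wd_mul_coord hK T hρR hf h3
  rw [chB_neg_one] at h4
  have h5 : t1 = t := by
    have : (3 : K) = 0 := three_eq_zero
    simp only [Units.val_neg, Units.val_one] at h4
    linear_combination (-1 : K) * h4 - t * this
  refine ⟨u1, v1, ?_⟩
  rw [← h5, ← e]
  exact h1

theorem Wd_mem_der (hm : 1 ≤ m) (t u v : K) : Wd hK T hρR hf t u v ∈ der (twistedG2 K (3 ^ m)) := by
  obtain ⟨u1, v1, h1⟩ := exists_Wd_mem_der hK T hρR hf t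
  have h2 : (Wd hK T hρR hf t u1 v1)⁻¹ * Wd hK T hρR hf t u v ∈ chevG2.posUnipotent K ⊓ T.F :=
    mul_mem (inv_mem (Wd_mem hK T hρR hf _ _ _)) (Wd_mem hK T hρR hf _ _ _)
  obtain ⟨t2, u2, v2, e⟩ := exists_Wd hK T hρR hf h2
  have h3 : Wd hK T hρR hf t u1 v1 * Wd hK T hρR hf t2 u2 v2 = Wd hK T hρR hf t u v := by rw [← e]; group
  have h4 := Wd_mul_coord hK T hρR hf h3
  have h5 : t2 = 0 := by linear_combination (-1 : K) * h4
  rw [← h3, h5]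
  exact mul_mem h1 (Wd_zero_mem_der hK T hρR hf hm u2 v2)

include hK T hρR hf in
theorem perfect (hm : 1 ≤ m) : commutator ↥(twistedG2 K (3 ^ m)) = ⊤ := by
  apply commutator_eq_top_of_le_der
  have hU : chevG2.posUnipotent K ⊓ T.F ≤ der (twistedG2 K (3 ^ m)) := by
    intro g hg
    obtain ⟨t, u, v, rfl⟩ := exists_Wd hK T hρR hf hg
    exact Wd_mem_der hK T hρR hf hm t u v
  conv_lhs => unfold twistedG2 ChevalleyDatum.genSubgroup
  rw [Subgroup.closure_le]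
  rintro g ⟨w, ⟨t, u, v, rfl | rfl⟩, hg⟩
  · exact hU ((mem_U_inf_F_iff hK T hρR hf g).2 ⟨t, u, v, hg⟩)
  · rw [← coe_wordV hK T hρR hf] at hg
    rw [Units.ext hg]
    obtain ⟨n, hn, h, hh, rfl⟩ := exists_sO hK T hρR hf
    have h1 := hU ⟨conj_V_mem_U hh (wordV_mem_V hK T hρR hf t u v),
      conj_mem_F T (G1_le_F hK T hρR hf hn) (wordV_mem_F hK T hρR hf t u v)⟩
    have h2 := conj_mem_der (twistedG2 K (3 ^ m)) (inv_mem hn) h1
    have e : ∀ a b : GL chevG2.Idx K, a⁻¹ * (a * b * a⁻¹) * a⁻¹⁻¹ = b := by intro a b; group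
    rwa [e] at h2

end Cfsg.Agent.Lib.Lead.Ree
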