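import Cfsg.Agent.Lib.Lead.ReeAct

set_option autoImplicit false

/-!
# `²G₂`: elements of odd order of `H¹` act fixed point freely on `U¹`; elements of order 3 of `U¹`
-/

namespace Cfsg.Agent.Lib.Lead.Ree

open Cfsg.Lie Matrix Cfsg.Agent.Lib.Helper6 Cfsg.Agent.Lib.Helper18 Cfsg.Agent.Lib.Lead.ChevSpecial
  Cfsg.Agent.Lib.Lead.FixTwist Cfsg.Agent.Lib.Helper17

variable {K : Type*} [Field K] [Fintype K] {m : ℕ} (hK : Fintype.card K = 3 ^ (2 * m + 1))

include hK in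
theorem pow_pow_theta (c : Kˣ) : (c ^ 3 ^ (m + 1)) ^ 3 ^ (m + 1) = c ^ 3 := by
  rw [← pow_mul, ← pow_add, show m + 1 + (m + 1) = (2 * m + 1) + 1 by ring, pow_succ, pow_mul, units_pow_card hK]

include hK in
theorem eq_one_of_chB {c : Kˣ} (h : chB m c = 1) : c = 1 := by
  have h1 : c ^ 3 ^ (m + 1) = c ^ 2 := inv_mul_eq_one.mp h
  have h2 := pow_pow_theta hK c
  rw [h1, ← pow_mul, mul_comm, pow_mul, h1, ← pow_mul] at h2
  have : c ^ 3 * c = c ^ 3 * 1 := by rw [mul_one, ← pow_succ]; exact h2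
  exact mul_left_cancel this

include hK in
theorem sq_eq_one_of_ch3 {c : Kˣ} (h : ch3 m c = 1) : c ^ 2 = 1 := by
  have h1 : c ^ 3 ^ (m + 1) = c := mul_inv_eq_one.mp h
  have h2 := pow_pow_theta hK c
  rw [h1, h1] at h2
  have : c * c ^ 2 = c * 1 := by rw [mul_one, ← pow_succ']; exact h2.symm
  exact mul_left_cancel this

include hK in
theorem card_units : Nat.card Kˣ = 3 ^ (2 * m + 1) - 1 := by
  classical
  rw [Nat.card_eq_fintype_card, Fintype.card_units, hK]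

include hK in
theorem card_odd_units : 2 * Nat.card {c : Kˣ // Odd (orderOf c)} = 3 ^ (2 * m + 1) - 1 := by
  obtain ⟨j, hj⟩ := exists_q m
  have hc : Nat.card Kˣ = 2 * (2 * j + 1) := by rw [card_units hK, hj]; omega
  have h1 : Nat.card {c : Kˣ // Odd (orderOf c)} = Nat.card (powMonoidHom (2 * j + 1) : Kˣ →* Kˣ).ker := by
    apply Nat.card_congr
    apply Equiv.subtypeEquivRight
    intro c
    rw [MonoidHom.mem_ker, powMonoidHom_apply, ← orderOf_dvd_iff_pow_eq_one]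
    constructor
    · intro ho
      have h2 : orderOf c ∣ 2 * (2 * j + 1) := hc ▸ orderOf_dvd_natCard c
      exact (Nat.Coprime.dvd_of_dvd_mul_left (Nat.Coprime.symm (Nat.coprime_two_left.mpr ho)) h2)
    · intro hd
      exact Odd.of_dvd_nat ⟨j, rfl⟩ hd
  rw [h1, IsCyclic.card_powMonoidHom_ker, hc, hj]
  have : (2 * (2 * j + 1)).gcd (2 * j + 1) = 2 * j + 1 := Nat.gcd_eq_right (Dvd.intro_left 2 rfl)
  rw [this]; omega

variable (T : STwist (bnData_of_mem K memG2))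
  (hρR : T.ρR = rhoRG2) (hf : ∀ r t, T.f r t = t ^ (3 ^ (m + kG2 r))) [CharP K 3] [Fact (Nat.Prime 3)]

/-- `Kˣ ≃* H¹` -/
noncomputable def hREquiv : Kˣ ≃* ↥(chevG2.diagonalSubgroup K ⊓ twistedG2 K (3 ^ m)) :=
  (MonoidHom.ofInjective (hR_injective (K := K) (m := m))).trans (MulEquiv.subgroupCongr (range_hR hK T hρR hf))

theorem coe_hREquiv (c : Kˣ) : ((hREquiv hK T hρR hf c : ↥(chevG2.diagonalSubgroup K ⊓ twistedG2 K (3 ^ m))) :
    GL chevG2.Idx K) = hR K m c := rfl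

include hK T hρR hf in
theorem card_odd_H1 : 2 * Nat.card {h : ↥(chevG2.diagonalSubgroup K ⊓ twistedG2 K (3 ^ m)) // Odd (orderOf h)} =
    3 ^ (2 * m + 1) - 1 := by
  rw [← card_odd_units hK]
  congr 1
  symm
  apply Nat.card_congr
  refine (hREquiv hK T hρR hf).toEquiv.subtypeEquiv ?_
  intro c
  show _ ↔ Odd (orderOf (hREquiv hK T hρR hf c))
  rw [MulEquiv.orderOf_eq]

/-- the centraliser of `h(c)` in `U¹` -/
theorem word_of_commute {c : Kˣ} {t u v : K}
    (h : hG K m c * (sysU2 hK T hρR hf).word t u v = (sysU2 hK T hρR hf).word t u v * hG K m c) :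
    (chB m c : K) * t = t ∧ (ch3 m c : K) * u = u ∧ (c : K) * v = v := by
  have h1 := conj_word hK T hρR hf c t u v
  rw [MulAut.conj_apply, h, mul_inv_cancel_right] at h1
  obtain ⟨a, b, d⟩ := (sysU hK T hρR hf).word_injective (huniqU hK T hρR hf) h1
  exact ⟨a.symm, b.symm, d.symm⟩

omit [Fintype K] [CharP K 3] [Fact (Nat.Prime 3)] in
theorem eq_zero_of_units_mul {a : Kˣ} (ha : a ≠ 1) {t : K} (h : (a : K) * t = t) : t = 0 := by
  by_contra ht
  apply ha
  apply Units.ext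
  rw [Units.val_one]
  exact mul_right_cancel₀ ht (by rw [h, one_mul])

include hK T hρR hf in
theorem centralizer_odd (h : GL chevG2.Idx K) (hh : h ∈ chevG2.diagonalSubgroup K ⊓ twistedG2 K (3 ^ m)) (h1 : h ≠ 1)
    (ho : Odd (orderOf h)) :
    (chevG2.posUnipotent K ⊓ twistedG2 K (3 ^ m)) ⊓ Subgroup.centralizer {h} = ⊥ := by
  rw [eq_bot_iff]
  rintro x ⟨hx, hc⟩
  replace hx : x ∈ chevG2.posUnipotent K ⊓ twistedG2 K (3 ^ m) := hx
  replace hc : x ∈ Subgroup.centralizer {h} := hc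
  rw [Subgroup.mem_centralizer_singleton_iff] at hc
  rw [← range_hR hK T hρR hf] at hh
  obtain ⟨c, rfl⟩ := hh
  have hc1 : c ≠ 1 := by rintro rfl; exact h1 (map_one _)
  have hoc : Odd (orderOf c) := by rwa [orderOf_injective (hR K m) hR_injective] at ho
  rw [U_inf_G1_eq hK T hρR hf] at hx
  obtain ⟨t, u, v, e⟩ := exists_word hK T hρR hf (g := ⟨x, hx.2.1⟩) hx.1 hx.2
  have hcomm : hG K m c * (sysU2 hK T hρR hf).word t u v = (sysU2 hK T hρR hf).word t u v * hG K m c := by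
    rw [← e]; exact Subtype.ext hc.symm
  obtain ⟨a, b, d⟩ := word_of_commute hK T hρR hf hcomm
  have hv : v = 0 := eq_zero_of_units_mul hc1 d
  have ht : t = 0 := eq_zero_of_units_mul (fun h => hc1 (eq_one_of_chB hK h)) a
  have hu : u = 0 := by
    refine eq_zero_of_units_mul (fun h => hc1 ?_) b
    have h2 := sq_eq_one_of_ch3 hK h
    have h3 : orderOf c ∣ 2 := orderOf_dvd_of_pow_eq_one h2
    have h4 : orderOf c = 1 := by
      rcases (Nat.dvd_prime Nat.prime_two).mp h3 with h | h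
      · exact h
      · rw [h] at hoc; exact absurd hoc (by decide)
    exact orderOf_eq_one_iff.mp h4
  rw [Subgroup.mem_bot]
  have := congrArg (fun g : ↥(chevG2.group K) => (g : GL chevG2.Idx K)) e
  simp only at this
  rw [this, ht, hu, hv, ReeWord.Sys2.word_zero_zero]
  rfl

/-- the parametrisation of `U¹` -/
noncomputable def wordEquiv : K × K × K ≃ ↥(chevG2.posUnipotent K ⊓ twistedG2 K (3 ^ m)) :=
  Equiv.ofBijective (fun p => ⟨(((sysU2 hK T hρR hf).word p.1 p.2.1 p.2.2 : ↥(chevG2.group K)) :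
    GL chevG2.Idx K), wordU_mem_U hK T hρR hf _ _ _, wordU_mem_G1 hK T hρR hf _ _ _⟩) (by
    constructor
    · rintro ⟨t, u, v⟩ ⟨t', u', v'⟩ h
      have h1 : (sysU hK T hρR hf).word t u v = (sysU hK T hρR hf).word t' u' v' :=
        Subtype.ext (congrArg (fun x : ↥(chevG2.posUnipotent K ⊓ twistedG2 K (3 ^ m)) => (x : GL chevG2.Idx K)) h)
      obtain ⟨rfl, rfl, rfl⟩ := (sysU hK T hρR hf).word_injective (huniqU hK T hρR hf) h1
      rfl
    · rintro ⟨g, hg⟩
      have hg' := hg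
      rw [U_inf_G1_eq hK T hρR hf] at hg'
      obtain ⟨t, u, v, e⟩ := exists_word hK T hρR hf (g := ⟨g, hg'.2.1⟩) hg'.1 hg'.2
      refine ⟨(t, u, v), Subtype.ext ?_⟩
      exact (congrArg (fun g : ↥(chevG2.group K) => (g : GL chevG2.Idx K)) e).symm)

theorem coe_wordEquiv (p : K × K × K) : ((wordEquiv hK T hρR hf p : ↥(chevG2.posUnipotent K ⊓ twistedG2 K (3 ^ m))) :
    GL chevG2.Idx K) = (((sysU2 hK T hρR hf).word p.1 p.2.1 p.2.2 : ↥(chevG2.group K)) : GL chevG2.Idx K) := rfl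

theorem orderOf_wordEquiv (p : K × K × K) :
    orderOf (wordEquiv hK T hρR hf p) = 3 ↔ p.1 = 0 ∧ p.2 ≠ 0 := by
  obtain ⟨t, u, v⟩ := p
  rw [orderOf_eq_prime_iff]
  have e1 : wordEquiv hK T hρR hf (t, u, v) ^ 3 = 1 ↔
      (sysU2 hK T hρR hf).word t u v * (sysU2 hK T hρR hf).word t u v * (sysU2 hK T hρR hf).word t u v = 1 := by
    rw [Subtype.ext_iff, Subtype.ext_iff, Subgroup.coe_pow, coe_wordEquiv, pow_succ, pow_two]
    rfl
  have e2 : wordEquiv hK T hρR hf (t, u, v) = 1 ↔ (t, u, v) = (0, 0, 0) := by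
    have : wordEquiv hK T hρR hf (0, 0, 0) = 1 := by
      apply Subtype.ext
      rw [coe_wordEquiv, ReeWord.Sys2.word_zero_zero]
      rfl
    rw [← this, (wordEquiv hK T hρR hf).injective.eq_iff]
  rw [e1, ne_eq, e2]
  constructor
  · rintro ⟨h1, h2⟩
    have ht := (sysU2 hK T hρR hf).eq_zero_of_word_cube (huniqU2 hK T hρR hf) h1
    refine ⟨ht, fun h => h2 ?_⟩
    simp only at ht h
    rw [ht]
    exact congrArg (Prod.mk 0) h
  · rintro ⟨h1, h2⟩
    simp only at h1 h2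
    subst h1
    refine ⟨(sysU2 hK T hρR hf).word_zero_cube u v, fun h => h2 ?_⟩
    exact (Prod.mk.inj h).2

include hK T hρR hf in
theorem card_order_three :
    Nat.card {u : ↥(chevG2.posUnipotent K ⊓ twistedG2 K (3 ^ m)) // orderOf u = 3} = (3 ^ (2 * m + 1)) ^ 2 - 1 := by
  classical
  have h1 : Nat.card {u : ↥(chevG2.posUnipotent K ⊓ twistedG2 K (3 ^ m)) // orderOf u = 3} =
      Nat.card {p : K × K × K // p.1 = 0 ∧ p.2 ≠ 0} := by
    symm
    apply Nat.card_congr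
    exact (wordEquiv hK T hρR hf).subtypeEquiv (fun p => (orderOf_wordEquiv hK T hρR hf p).symm)
  have h2 : Nat.card {p : K × K × K // p.1 = 0 ∧ p.2 ≠ 0} = Nat.card {w : K × K // ¬ w = 0} := by
    apply Nat.card_congr
    exact ⟨fun p => ⟨p.1.2, p.2.2⟩, fun w => ⟨(0, w.1), rfl, w.2⟩,
      fun ⟨⟨t, w⟩, h, h'⟩ => by simp only at h; subst h; rfl, fun _ => rfl⟩
  rw [h1, h2, Nat.card_eq_fintype_card, Fintype.card_subtype_compl, Fintype.card_subtype_eq, Fintype.card_prod, hK, sq]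

end Cfsg.Agent.Lib.Lead.Ree
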