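import Cfsg.Agent.Lib.Lead.ReePerf
import Cfsg.Agent.S0319

set_option autoImplicit false

/-!
# `²G₂(q)` is simple for `q > 3`
-/

namespace Cfsg.Agent.Lib.Lead.Ree

open Cfsg.Lie Matrix Cfsg.Agent.Lib.Helper6 Cfsg.Agent.Lib.Helper18 Cfsg.Agent.Lib.Lead.ChevSpecial
  Cfsg.Agent.Lib.Lead.FixTwist Cfsg.Agent.Lib.Helper17

variable {K : Type*} [Field K] [Fintype K] {m : ℕ} (hK : Fintype.card K = 3 ^ (2 * m + 1))
  (T : STwist (bnData_of_mem K memG2))
  (hρR : T.ρR = rhoRG2) (hf : ∀ r t, T.f r t = t ^ (3 ^ (m + kG2 r))) [CharP K 3] [Fact (Nat.Prime 3)]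

include hK T hρR hf in
theorem nontrivial_G1 : Nontrivial ↥(twistedG2 K (3 ^ m)) := by
  refine ⟨⟨_, wordU_mem_G1 hK T hρR hf 0 0 1⟩, 1, fun h => ?_⟩
  have h1 := congrArg (fun x : ↥(twistedG2 K (3 ^ m)) => (x : GL chevG2.Idx K)) h
  simp only [coe_wordU_one] at h1
  exact xg_mul_ne_one_pos h1

theorem irreducible_bnPair : (fixBN hK T hρR hf).bnPair.Irreducible := by
  rintro J hJ ⟨s, hs⟩ ⟨s', hs', hs'J⟩
  exfalso
  obtain ⟨O, hO, e⟩ := hJ hs
  obtain ⟨O', hO', e'⟩ := hs'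
  have h1 : O = wG2 := List.mem_singleton.mp hO
  have h2 : O' = wG2 := List.mem_singleton.mp hO'
  subst h1
  subst h2
  exact hs'J ((Subtype.ext (e'.trans e.symm) : s' = s) ▸ hs)

theorem solvable_B1 : Group.IsSolvable ↥(fixBN hK T hρR hf).bnPair.B := by
  have := (bnData_of_mem K memG2).hB.B_solvable (bnData_of_mem K memG2).hT.toTabs
  let f : ↥(fixBN hK T hρR hf).bnPair.B →* ↥(chevG2.borelSubgroup K) :=
    { toFun := fun x => ⟨(x.1 : GL chevG2.Idx K), ((fixBN hK T hρR hf).mem_B1 x.1).1 x.2⟩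
      map_one' := rfl
      map_mul' := fun _ _ => rfl }
  refine Group.isSolvable_of_isSolvable_injective (f := f) ?_
  intro x y h
  exact Subtype.ext (Subtype.ext (congrArg (fun z : ↥(chevG2.borelSubgroup K) => (z : GL chevG2.Idx K)) h))

include hK T hρR hf in
theorem simple (hm : 1 ≤ m) :
    IsSimpleGroup ↥(twistedG2 K (3 ^ m)) ∧ ¬ IsMulCommutative ↥(twistedG2 K (3 ^ m)) := by
  have hnt := nontrivial_G1 hK T hρR hf
  have hp := perfect hK T hρR hf hm
  constructor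
  · exact Cfsg.Agent.S0319.result (G := ↥(twistedG2 K (3 ^ m))) (fixBN hK T hρR hf).bnPair
      (irreducible_bnPair hK T hρR hf) (solvable_B1 hK T hρR hf) hp (normalCore_B1 hK T hρR hf)
  · intro hc
    have h1 : commutator ↥(twistedG2 K (3 ^ m)) = ⊥ := by
      rw [commutator_def, Subgroup.commutator_eq_bot_iff_le_centralizer]
      intro x _
      rw [Subgroup.mem_centralizer_iff]
      intro y _
      exact hc.is_comm.comm y x
    rw [h1] at hp
    exact bot_ne_top hp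

end Cfsg.Agent.Lib.Lead.Ree
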