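import Cfsg.Agent.Lib.Lead.ReePerf

set_option autoImplicit false

/-!
# `²G₂`: the Bruhat decomposition, the Sylow 3-subgroups are trivial intersection subgroups
-/

namespace Cfsg.Agent.Lib.Lead.Ree

open Cfsg.Lie Matrix Cfsg.Agent.Lib.Helper6 Cfsg.Agent.Lib.Helper18 Cfsg.Agent.Lib.Lead.ChevSpecial
  Cfsg.Agent.Lib.Lead.FixTwist Cfsg.Agent.Lib.Helper17

section general

open scoped Pointwise

variable {G : Type*} [Group G] [Finite G] {p : ℕ} [Fact p.Prime]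

theorem sylow_smul_eq_of_conj_mem (S : Sylow p G) (g : G) (h : ∀ x ∈ S, g * x * g⁻¹ ∈ S) : g • S = S := by
  apply Sylow.ext
  rw [Sylow.coe_subgroup_smul]
  have h1 : MulAut.conj g • (S : Subgroup G) ≤ S := by
    rintro _ ⟨x, hx, rfl⟩
    exact h x hx
  exact Subgroup.eq_of_le_of_card_ge h1
    (Nat.card_congr (Subgroup.equivSMul (MulAut.conj g) (S : Subgroup G)).toEquiv).le

theorem sylow_TI (S : Sylow p G)
    (h : ∀ g : G, (∀ x ∈ S, g * x * g⁻¹ ∈ S) ∨ (∀ x ∈ S, g * x * g⁻¹ ∈ S → x = 1))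
    (P Q : Sylow p G) (hPQ : P ≠ Q) : (P : Subgroup G) ⊓ (Q : Subgroup G) = ⊥ := by
  obtain ⟨a, rfl⟩ := MulAction.exists_smul_eq G S P
  obtain ⟨b, rfl⟩ := MulAction.exists_smul_eq G S Q
  rw [eq_bot_iff]
  rintro x ⟨h1, h2⟩
  rw [SetLike.mem_coe, Sylow.coe_subgroup_smul] at h1 h2
  obtain ⟨y, hy, rfl⟩ := h1
  obtain ⟨z, hz, e⟩ := h2
  have e' : b * z * b⁻¹ = a * y * a⁻¹ := e
  have e2 : (b⁻¹ * a) * y * (b⁻¹ * a)⁻¹ = z := by
    calc (b⁻¹ * a) * y * (b⁻¹ * a)⁻¹ = b⁻¹ * (a * y * a⁻¹) * b := by group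
      _ = z := by rw [← e']; group
  rcases h (b⁻¹ * a) with h3 | h3
  · exfalso
    apply hPQ
    have := sylow_smul_eq_of_conj_mem S _ h3
    rw [mul_smul, inv_smul_eq_iff] at this
    exact this
  · have : y = 1 := h3 y hy (e2 ▸ hz)
    rw [this, Subgroup.mem_bot]
    simp

end general

variable {K : Type*} [Field K]

/-- elements of `H n_{w₀}` conjugate `U` into `V`. -/
theorem conj_U_mem_V {h u : GL chevG2.Idx K} (hh : h ∈ chevG2.diagonalSubgroup K)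
    (hu : u ∈ chevG2.posUnipotent K) :
    (h * (bnData_of_mem K memG2).hB.nW wG2) * u * (h * (bnData_of_mem K memG2).hB.nW wG2)⁻¹ ∈
      chevG2.negUnipotent K := by
  have key : chevG2.posUnipotent K ≤ (chevG2.negUnipotent K).comap
      (MulAut.conj (h * (bnData_of_mem K memG2).hB.nW wG2)).toMonoidHom := by
    rw [(bnData_of_mem K memG2).hB.posUnipotent_eq, Subgroup.closure_le]
    rintro _ ⟨r, t, hr, rfl⟩
    obtain ⟨c, -, e⟩ := (bnData_of_mem K memG2).hB.hnW_conj_xg (bnData_of_mem K memG2).hT.tab hh isLong_wG2.lt hr.1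
    show (h * (bnData_of_mem K memG2).hB.nW wG2) * (bnData_of_mem K memG2).hB.xg r t *
      (h * (bnData_of_mem K memG2).hB.nW wG2)⁻¹ ∈ chevG2.negUnipotent K
    rw [e t]
    exact (bnData_of_mem K memG2).hB.xg_mem_neg (isLong_wG2.pos r hr) _
  exact key hu

variable [Fintype K] {m : ℕ} (hK : Fintype.card K = 3 ^ (2 * m + 1))
  (T : STwist (bnData_of_mem K memG2))
  (hρR : T.ρR = rhoRG2) (hf : ∀ r t, T.f r t = t ^ (3 ^ (m + kG2 r))) [CharP K 3] [Fact (Nat.Prime 3)]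

include hK hρR hf in
/-- elements of `N¹` outside `H` -/
theorem N1_cases {n : GL chevG2.Idx K} (hn : n ∈ chevG2.monomialSubgroup K) (h1 : n ∈ twistedG2 K (3 ^ m)) :
    n ∈ chevG2.diagonalSubgroup K ∨ ∃ h ∈ chevG2.diagonalSubgroup K, n = h * (bnData_of_mem K memG2).hB.nW wG2 := by
  by_cases hH : n ∈ chevG2.diagonalSubgroup K
  · exact Or.inl hH
  · right
    have S : STab chevG2 rhoG2 T.toFixCore.ρR [wG2] orbsG2 := by
      show STab chevG2 rhoG2 T.ρR [wG2] orbsG2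
      rw [hρR]; exact sTabG2
    exact exists_eq_mul_nW_of_long T.toFixCore S Cfsg.Agent.Lib.Helper36.checksG2 isLong_wG2 hn
      (G1_le_F hK T hρR hf h1) hH

include hK T hρR hf in
/-- the Bruhat decomposition of `G¹` -/
theorem bruhat {g : GL chevG2.Idx K} (hg : g ∈ twistedG2 K (3 ^ m)) :
    g ∈ chevG2.borelSubgroup K ∨ ∃ u₁ ∈ chevG2.posUnipotent K ⊓ twistedG2 K (3 ^ m),
      ∃ h ∈ chevG2.diagonalSubgroup K, h * (bnData_of_mem K memG2).hB.nW wG2 ∈ twistedG2 K (3 ^ m) ∧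
      ∃ u₂ ∈ chevG2.posUnipotent K ⊓ twistedG2 K (3 ^ m), g = u₁ * (h * (bnData_of_mem K memG2).hB.nW wG2) * u₂ := by
  obtain ⟨u₁, h1, g1, n, hn, gn, u₂, h2, g2, e⟩ := (fixBN hK T hρR hf).nf_G1 hg
  rcases N1_cases hK T hρR hf hn gn with hH | ⟨h, hh, rfl⟩
  · left
    rw [e]
    exact mul_mem (mul_mem (Base.U_le_B h1) (Base.H_le_B hH)) (Base.U_le_B (Um_le_U n h2))
  · exact Or.inr ⟨u₁, ⟨h1, g1⟩, h, hh, gn, u₂, ⟨Um_le_U _ h2, g2⟩, e⟩

omit [Fintype K] [CharP K 3] [Fact (Nat.Prime 3)] in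
/-- `B` normalises `U` -/
theorem B_conj_U {b u : GL chevG2.Idx K} (hb : b ∈ chevG2.borelSubgroup K) (hu : u ∈ chevG2.posUnipotent K) :
    b * u * b⁻¹ ∈ chevG2.posUnipotent K := by
  have key : chevG2.borelSubgroup K ≤ Subgroup.normalizer (chevG2.posUnipotent K : Set (GL chevG2.Idx K)) := by
    unfold ChevalleyDatum.borelSubgroup
    rw [sup_le_iff]
    exact ⟨Subgroup.le_normalizer, (bnData_of_mem K memG2).hB.H_le_normalizer_U⟩
  exact (Subgroup.mem_normalizer_iff.mp (key hb) u).mp hu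

/-- `U¹` as a subgroup of `G¹` -/
def U1 (K : Type*) [Field K] (m : ℕ) : Subgroup ↥(twistedG2 K (3 ^ m)) :=
  (chevG2.posUnipotent K ⊓ twistedG2 K (3 ^ m)).subgroupOf (twistedG2 K (3 ^ m))

omit [Fintype K] [CharP K 3] [Fact (Nat.Prime 3)] in
theorem mem_U1 (g : ↥(twistedG2 K (3 ^ m))) : g ∈ U1 K m ↔ (g : GL chevG2.Idx K) ∈ chevG2.posUnipotent K := by
  unfold U1
  rw [Subgroup.mem_subgroupOf, Subgroup.mem_inf]
  exact ⟨fun h => h.1, fun h => ⟨h, g.2⟩⟩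

include hK T hρR hf in
theorem card_U1 : Nat.card ↥(U1 K m) = 3 ^ (3 * (2 * m + 1)) := by
  unfold U1
  rw [Nat.card_congr (Subgroup.subgroupOfEquivOfLe inf_le_right).toEquiv, U_inf_G1_eq hK T hρR hf,
    card_U_inf_F hK T hρR hf, ← pow_mul, mul_comm]

include hK T hρR hf in
theorem not_dvd_index_U1 : ¬ 3 ∣ (U1 K m).index := by
  have h1 := (U1 K m).card_mul_index
  rw [card_U1 hK T hρR hf, card_G1 hK T hρR hf, ← pow_mul, mul_comm (2 * m + 1) 3, mul_assoc] at h1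
  have h2 : (U1 K m).index = (3 ^ (2 * m + 1) - 1) * (3 ^ (3 * (2 * m + 1)) + 1) :=
    Nat.eq_of_mul_eq_mul_left (by positivity) h1
  rw [h2, Nat.Prime.dvd_mul Nat.prime_three]
  have a1 : 3 ∣ 3 ^ (2 * m + 1) := dvd_pow_self 3 (by omega)
  have a2 : 3 ∣ 3 ^ (3 * (2 * m + 1)) := dvd_pow_self 3 (by omega)
  have a3 : 0 < 3 ^ (2 * m + 1) := by positivity
  omega

include hK T hρR hf in
theorem U1_dichotomy (g : ↥(twistedG2 K (3 ^ m))) :
    (∀ x ∈ U1 K m, g * x * g⁻¹ ∈ U1 K m) ∨ (∀ x ∈ U1 K m, g * x * g⁻¹ ∈ U1 K m → x = 1) := by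
  rcases bruhat hK T hρR hf g.2 with hB | ⟨u₁, hu₁, h, hh, -, u₂, hu₂, e⟩
  · left
    intro x hx
    rw [mem_U1] at hx ⊢
    exact B_conj_U hB hx
  · right
    intro x hx hx'
    rw [mem_U1] at hx hx'
    have h1 : (h * (bnData_of_mem K memG2).hB.nW wG2) * (u₂ * x * u₂⁻¹) * (h * (bnData_of_mem K memG2).hB.nW wG2)⁻¹ ∈
        chevG2.negUnipotent K := conj_U_mem_V hh (mul_mem (mul_mem hu₂.1 hx) (inv_mem hu₂.1))
    have h2 : (h * (bnData_of_mem K memG2).hB.nW wG2) * (u₂ * x * u₂⁻¹) * (h * (bnData_of_mem K memG2).hB.nW wG2)⁻¹ =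
        u₁⁻¹ * ((g : GL chevG2.Idx K) * x * (g : GL chevG2.Idx K)⁻¹) * u₁ := by rw [e]; group
    have h3 : (h * (bnData_of_mem K memG2).hB.nW wG2) * (u₂ * x * u₂⁻¹) * (h * (bnData_of_mem K memG2).hB.nW wG2)⁻¹ ∈
        chevG2.posUnipotent K ⊓ chevG2.negUnipotent K := by
      refine Subgroup.mem_inf.mpr ⟨?_, h1⟩
      rw [h2]
      exact mul_mem (mul_mem (inv_mem hu₁.1) hx') hu₁.1
    rw [(bnData_of_mem K memG2).hB.U_inf_V (bnData_of_mem K memG2).hT.toTabs, Subgroup.mem_bot] at h3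
    apply Subtype.ext
    have h4 : u₂ * (x : GL chevG2.Idx K) * u₂⁻¹ = 1 := by
      have := conj_eq_one_iff.mp h3
      exact this
    exact conj_eq_one_iff.mp h4

include hK T hρR hf in
theorem sylow_three_TI (P Q : Sylow 3 ↥(twistedG2 K (3 ^ m))) (hPQ : P ≠ Q) :
    (P : Subgroup ↥(twistedG2 K (3 ^ m))) ⊓ (Q : Subgroup ↥(twistedG2 K (3 ^ m))) = ⊥ := by
  have hp : IsPGroup 3 ↥(U1 K m) := IsPGroup.of_card (card_U1 hK T hρR hf)
  refine sylow_TI (hp.toSylow (not_dvd_index_U1 hK T hρR hf)) ?_ P Q hPQ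
  intro g
  simp only [IsPGroup.mem_toSylow]
  exact U1_dichotomy hK T hρR hf g

end Cfsg.Agent.Lib.Lead.Ree
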