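import Cfsg.Agent.Lib.Lead.ReeTI

set_option autoImplicit false

/-!
# `²G₂`: stabilisers of three points
-/

namespace Cfsg.Agent.Lib.Lead.Ree

open Cfsg.Lie Matrix Cfsg.Agent.Lib.Helper6 Cfsg.Agent.Lib.Helper18 Cfsg.Agent.Lib.Lead.ChevSpecial
  Cfsg.Agent.Lib.Lead.FixTwist Cfsg.Agent.Lib.Helper17

section abs

open MulAction

variable {G : Type*} [Group G] (B U : Subgroup G) (n0 a : G)

theorem mem_stab_mk (s g : G) : s ∈ stabilizer G (g : G ⧸ B) ↔ g⁻¹ * s * g ∈ B := by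
  rw [mem_stabilizer_iff]
  have : s • (g : G ⧸ B) = ((s * g : G) : G ⧸ B) := rfl
  rw [this, QuotientGroup.eq, ← inv_mem_iff]
  have e : ((s * g)⁻¹ * g)⁻¹ = g⁻¹ * s * g := by group
  rw [e]

theorem card_stab3_smul (g : G) (x y z : G ⧸ B) :
    Nat.card ↥(stabilizer G (g • x) ⊓ stabilizer G (g • y) ⊓ stabilizer G (g • z)) =
      Nat.card ↥(stabilizer G x ⊓ stabilizer G y ⊓ stabilizer G z) := by
  rw [stabilizer_smul_eq_stabilizer_map_conj, stabilizer_smul_eq_stabilizer_map_conj,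
    stabilizer_smul_eq_stabilizer_map_conj, ← Subgroup.map_inf _ _ _ (MulAut.conj g).injective,
    ← Subgroup.map_inf _ _ _ (MulAut.conj g).injective]
  exact Subgroup.card_map_of_injective (MulAut.conj g).injective

variable (hUB : U ≤ B) (hcov : ∀ g : G, g ∈ B ∨ ∃ u ∈ U, ∃ b ∈ B, g = u * n0 * b)

include hcov in
theorem coset_cases (y : G ⧸ B) : y = ((1 : G) : G ⧸ B) ∨ ∃ u ∈ U, y = ((u * n0 : G) : G ⧸ B) := by
  obtain ⟨g, rfl⟩ := QuotientGroup.mk_surjective y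
  rcases hcov g with h | ⟨u, hu, b, hb, rfl⟩
  · left
    rw [QuotientGroup.eq]
    simpa using inv_mem h
  · right
    refine ⟨u, hu, ?_⟩
    rw [QuotientGroup.eq]
    have : (u * n0 * b)⁻¹ * (u * n0) = b⁻¹ := by group
    rw [this]; exact inv_mem hb

include hUB hcov in
theorem exists_normalize (x y z : G ⧸ B) (hxy : x ≠ y) (hxz : x ≠ z) (hyz : y ≠ z) :
    ∃ g : G, ∃ w ∈ U, w ≠ 1 ∧ g • x = ((1 : G) : G ⧸ B) ∧ g • y = ((n0 : G) : G ⧸ B) ∧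
      g • z = ((w * n0 : G) : G ⧸ B) := by
  obtain ⟨c, rfl⟩ := QuotientGroup.mk_surjective x
  have h1 : c⁻¹ • ((c : G) : G ⧸ B) = ((1 : G) : G ⧸ B) := by
    show ((c⁻¹ * c : G) : G ⧸ B) = _
    rw [inv_mul_cancel]
  rcases coset_cases B U n0 hcov (c⁻¹ • y) with h2 | ⟨u, hu, h2⟩
  · exact absurd (smul_left_cancel c⁻¹ (h1.trans h2.symm)) hxy
  have h3 : (u⁻¹ * c⁻¹) • ((c : G) : G ⧸ B) = ((1 : G) : G ⧸ B) := by
    rw [mul_smul, h1]
    show ((u⁻¹ * 1 : G) : G ⧸ B) = _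
    rw [QuotientGroup.eq]
    simpa using hUB hu
  have h4 : (u⁻¹ * c⁻¹) • y = ((n0 : G) : G ⧸ B) := by
    rw [mul_smul, h2]
    show ((u⁻¹ * (u * n0) : G) : G ⧸ B) = _
    rw [inv_mul_cancel_left]
  rcases coset_cases B U n0 hcov ((u⁻¹ * c⁻¹) • z) with h5 | ⟨w, hw, h5⟩
  · exact absurd (smul_left_cancel _ (h3.trans h5.symm)) hxz
  refine ⟨u⁻¹ * c⁻¹, w, hw, ?_, h3, h4, h5⟩
  rintro rfl
  rw [one_mul] at h5
  exact hyz (smul_left_cancel _ (h4.trans h5.symm))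

include hUB hcov in
theorem card_stab3_le
    (hst : ∀ w ∈ U, w ≠ 1 → ∀ s ∈ B, n0⁻¹ * s * n0 ∈ B → (w * n0)⁻¹ * s * (w * n0) ∈ B → s = 1 ∨ s = a)
    (x y z : G ⧸ B) (hxy : x ≠ y) (hxz : x ≠ z) (hyz : y ≠ z) :
    Nat.card ↥(stabilizer G x ⊓ stabilizer G y ⊓ stabilizer G z) ≤ 2 := by
  obtain ⟨g, w, hw, hw1, e1, e2, e3⟩ := exists_normalize B U n0 hUB hcov x y z hxy hxz hyz
  rw [← card_stab3_smul B g, e1, e2, e3]
  have hsub : ((stabilizer G ((1 : G) : G ⧸ B) ⊓ stabilizer G ((n0 : G) : G ⧸ B) ⊓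
      stabilizer G ((w * n0 : G) : G ⧸ B) : Subgroup G) : Set G) ⊆ {1, a} := by
    rintro s ⟨⟨h1, h2⟩, h3⟩
    replace h1 : s ∈ stabilizer G ((1 : G) : G ⧸ B) := h1
    replace h2 : s ∈ stabilizer G ((n0 : G) : G ⧸ B) := h2
    replace h3 : s ∈ stabilizer G ((w * n0 : G) : G ⧸ B) := h3
    rw [mem_stab_mk] at h1 h2 h3
    exact hst w hw hw1 s (by simpa using h1) h2 h3
  calc Nat.card _ = Set.ncard _ := (Nat.card_coe_set_eq _)
    _ ≤ Set.ncard ({1, a} : Set G) := Set.ncard_le_ncard hsub (Set.toFinite _)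
    _ ≤ 2 := (Set.ncard_insert_le _ _).trans (by rw [Set.ncard_singleton])

end abs

variable {K : Type*} [Field K]

/-- `B ∩ n B n⁻¹ = H` for `n ∈ H n_{w₀}` -/
theorem mem_H_of_conj {h0 s : GL chevG2.Idx K} (hh : h0 ∈ chevG2.diagonalSubgroup K)
    (hs : s ∈ chevG2.borelSubgroup K)
    (hs' : (h0 * (bnData_of_mem K memG2).hB.nW wG2)⁻¹ * s * (h0 * (bnData_of_mem K memG2).hB.nW wG2) ∈
      chevG2.borelSubgroup K) : s ∈ chevG2.diagonalSubgroup K := by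
  have hn : h0 * (bnData_of_mem K memG2).hB.nW wG2 ∈ chevG2.monomialSubgroup K :=
    mul_mem (Base.H_le_N hh) ((bnData_of_mem K memG2).hB.nW_mem (bnData_of_mem K memG2).hT.tab isLong_wG2.lt)
  have key : chevG2.borelSubgroup K ≤ (chevG2.negUnipotent K ⊔ chevG2.diagonalSubgroup K).comap
      (MulAut.conj (h0 * (bnData_of_mem K memG2).hB.nW wG2)).toMonoidHom := by
    unfold ChevalleyDatum.borelSubgroup
    rw [sup_le_iff]
    constructor
    · intro u hu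
      exact (le_sup_left : chevG2.negUnipotent K ≤ _) (conj_U_mem_V hh hu)
    · intro h hh'
      exact (le_sup_right : chevG2.diagonalSubgroup K ≤ _)
        (((bnData_of_mem K memG2).hB.N_conj_H (bnData_of_mem K memG2).hT.tab hn).1 h hh')
  have h1 := key hs'
  have e : (MulAut.conj (h0 * (bnData_of_mem K memG2).hB.nW wG2)).toMonoidHom
      ((h0 * (bnData_of_mem K memG2).hB.nW wG2)⁻¹ * s * (h0 * (bnData_of_mem K memG2).hB.nW wG2)) = s := by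
    show _ * _ * _⁻¹ = s
    group
  rw [Subgroup.mem_comap, e] at h1
  have h2 : s ∈ chevG2.borelSubgroup K ⊓ (chevG2.negUnipotent K ⊔ chevG2.diagonalSubgroup K) := ⟨hs, h1⟩
  rwa [(bnData_of_mem K memG2).hB.B_inf_VH (bnData_of_mem K memG2).hT.toTabs] at h2

theorem commute_of_conj {h0 s w : GL chevG2.Idx K} (hh : h0 ∈ chevG2.diagonalSubgroup K)
    (hs : s ∈ chevG2.diagonalSubgroup K) (hw : w ∈ chevG2.posUnipotent K)
    (hs' : (w * (h0 * (bnData_of_mem K memG2).hB.nW wG2))⁻¹ * s * (w * (h0 * (bnData_of_mem K memG2).hB.nW wG2)) ∈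
      chevG2.borelSubgroup K) : s * w = w * s := by
  have h1 : w⁻¹ * s * w ∈ chevG2.diagonalSubgroup K := by
    refine mem_H_of_conj hh (mul_mem (mul_mem (inv_mem (Base.U_le_B hw)) (Base.H_le_B hs)) (Base.U_le_B hw)) ?_
    have e : (h0 * (bnData_of_mem K memG2).hB.nW wG2)⁻¹ * (w⁻¹ * s * w) * (h0 * (bnData_of_mem K memG2).hB.nW wG2) =
        (w * (h0 * (bnData_of_mem K memG2).hB.nW wG2))⁻¹ * s * (w * (h0 * (bnData_of_mem K memG2).hB.nW wG2)) := by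
      group
    rw [e]; exact hs'
  have h2 : s⁻¹ * (w⁻¹ * s * w) ∈ chevG2.posUnipotent K ⊓ chevG2.diagonalSubgroup K := by
    refine Subgroup.mem_inf.mpr ⟨?_, mul_mem (inv_mem hs) h1⟩
    have e : s⁻¹ * (w⁻¹ * s * w) = (s⁻¹ * w⁻¹ * s⁻¹⁻¹) * w := by group
    rw [e]
    exact mul_mem ((bnData_of_mem K memG2).hB.H_conj_U (inv_mem hs) (inv_mem hw)) hw
  rw [(bnData_of_mem K memG2).hB.U_inf_H (bnData_of_mem K memG2).hT.toTabs, Subgroup.mem_bot] at h2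
  calc s * w = w * s * (s⁻¹ * (w⁻¹ * s * w)) := by group
    _ = w * s := by rw [h2, mul_one]

variable [Fintype K] {m : ℕ} (hK : Fintype.card K = 3 ^ (2 * m + 1))
  (T : STwist (bnData_of_mem K memG2))
  (hρR : T.ρR = rhoRG2) (hf : ∀ r t, T.f r t = t ^ (3 ^ (m + kG2 r))) [CharP K 3] [Fact (Nat.Prime 3)]

include hK T hρR hf in
theorem centralizer_H1 {s w : GL chevG2.Idx K} (hs : s ∈ chevG2.diagonalSubgroup K ⊓ twistedG2 K (3 ^ m))
    (hw : w ∈ chevG2.posUnipotent K ⊓ twistedG2 K (3 ^ m)) (hw1 : w ≠ 1) (hc : s * w = w * s) :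
    s = 1 ∨ s = hR K m (-1) := by
  rw [← range_hR hK T hρR hf] at hs
  obtain ⟨c, rfl⟩ := hs
  rw [U_inf_G1_eq hK T hρR hf] at hw
  obtain ⟨t, u, v, e⟩ := exists_word hK T hρR hf (g := ⟨w, hw.2.1⟩) hw.1 hw.2
  have hcomm : hG K m c * (sysU2 hK T hρR hf).word t u v = (sysU2 hK T hρR hf).word t u v * hG K m c := by
    rw [← e]; exact Subtype.ext hc
  obtain ⟨a, b, d⟩ := word_of_commute hK T hρR hf hcomm
  by_cases hc1 : c = 1
  · left; rw [hc1, map_one]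
  right
  have hv : v = 0 := eq_zero_of_units_mul hc1 d
  have ht : t = 0 := eq_zero_of_units_mul (fun h => hc1 (eq_one_of_chB hK h)) a
  have hu : u ≠ 0 := by
    rintro rfl
    apply hw1
    have := congrArg (fun g : ↥(chevG2.group K) => (g : GL chevG2.Idx K)) e
    simp only at this
    rw [this, ht, hv, ReeWord.Sys2.word_zero_zero]
    rfl
  have h3 : ch3 m c = 1 := by
    by_contra h
    exact hu (eq_zero_of_units_mul h b)
  have h4 := sq_eq_one_of_ch3 hK h3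
  have h5 : ((c : Kˣ) : K) * ((c : Kˣ) : K) = 1 := by
    rw [← Units.val_mul, ← sq, h4, Units.val_one]
  rcases mul_self_eq_one_iff.mp h5 with h | h
  · exact absurd (Units.ext h) hc1
  · congr 1
    exact Units.ext (by rw [h]; simp)

omit [Fintype K] [CharP K 3] [Fact (Nat.Prime 3)] in
theorem mem_B1' (g : ↥(twistedG2 K (3 ^ m))) :
    g ∈ (chevG2.borelSubgroup K ⊓ twistedG2 K (3 ^ m)).subgroupOf (twistedG2 K (3 ^ m)) ↔
      (g : GL chevG2.Idx K) ∈ chevG2.borelSubgroup K := by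
  rw [Subgroup.mem_subgroupOf, Subgroup.mem_inf]
  exact ⟨fun h => h.1, fun h => ⟨h, g.2⟩⟩

theorem Wd_ne_one {t u v : K} (h : ¬ (t = 0 ∧ u = 0 ∧ v = 0)) : Wd hK T hρR hf t u v ≠ 1 := by
  intro e
  apply h
  have e1 : (sysU hK T hρR hf).word t u v = (sysU hK T hρR hf).word 0 0 0 := by
    apply Subtype.ext
    have : (sysU hK T hρR hf).word 0 0 0 = 1 := (sysU2 hK T hρR hf).word_zero_zero
    rw [this]
    exact e
  exact (sysU hK T hρR hf).word_injective (huniqU hK T hρR hf) e1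

include hK T hρR hf in
theorem not_mem_B {h0 : GL chevG2.Idx K} (hh : h0 ∈ chevG2.diagonalSubgroup K) :
    h0 * (bnData_of_mem K memG2).hB.nW wG2 ∉ chevG2.borelSubgroup K := by
  intro hB
  have hU := (Wd_mem hK T hρR hf 0 0 1).1
  have h1 : (h0 * (bnData_of_mem K memG2).hB.nW wG2) * Wd hK T hρR hf 0 0 1 *
      (h0 * (bnData_of_mem K memG2).hB.nW wG2)⁻¹ ∈ chevG2.posUnipotent K ⊓ chevG2.negUnipotent K :=
    Subgroup.mem_inf.mpr ⟨B_conj_U hB hU, conj_U_mem_V hh hU⟩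
  rw [(bnData_of_mem K memG2).hB.U_inf_V (bnData_of_mem K memG2).hT.toTabs, Subgroup.mem_bot] at h1
  exact Wd_ne_one hK T hρR hf (by simp) (conj_eq_one_iff.mp h1)

omit [Fintype K] [Fact (Nat.Prime 3)] in
theorem neg_one_ne_one : (-1 : Kˣ) ≠ 1 := by
  intro h
  have h1 : (-1 : K) = 1 := by simpa using congrArg Units.val h
  have h3 : (3 : K) = 0 := three_eq_zero
  have : (1 : K) = 0 := by linear_combination h3 + h1
  exact one_ne_zero this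

omit [Fintype K] [CharP K 3] [Fact (Nat.Prime 3)] in
theorem ch3_neg_one : ch3 m (-1 : Kˣ) = 1 := by
  unfold ch3
  rw [(Odd.pow (by decide) : Odd (3 ^ (m + 1))).neg_one_pow]
  simp

include hK T hρR hf in
theorem three_point :
    (∀ x y z : ↥(twistedG2 K (3 ^ m)) ⧸ (chevG2.borelSubgroup K ⊓ twistedG2 K (3 ^ m)).subgroupOf (twistedG2 K (3 ^ m)),
      x ≠ y → x ≠ z → y ≠ z →
      Nat.card ↥(MulAction.stabilizer ↥(twistedG2 K (3 ^ m)) x ⊓ MulAction.stabilizer ↥(twistedG2 K (3 ^ m)) y ⊓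
        MulAction.stabilizer ↥(twistedG2 K (3 ^ m)) z) ≤ 2) ∧
    ∃ x y z : ↥(twistedG2 K (3 ^ m)) ⧸ (chevG2.borelSubgroup K ⊓ twistedG2 K (3 ^ m)).subgroupOf (twistedG2 K (3 ^ m)),
      x ≠ y ∧ x ≠ z ∧ y ≠ z ∧
      Nat.card ↥(MulAction.stabilizer ↥(twistedG2 K (3 ^ m)) x ⊓ MulAction.stabilizer ↥(twistedG2 K (3 ^ m)) y ⊓
        MulAction.stabilizer ↥(twistedG2 K (3 ^ m)) z) = 2 := by
  obtain ⟨n, hn, h0, hh0, rfl⟩ := exists_sO hK T hρR hf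
  have hnN : h0 * (bnData_of_mem K memG2).hB.nW wG2 ∈ chevG2.monomialSubgroup K :=
    mul_mem (Base.H_le_N hh0) ((bnData_of_mem K memG2).hB.nW_mem (bnData_of_mem K memG2).hT.tab isLong_wG2.lt)
  set B1 := (chevG2.borelSubgroup K ⊓ twistedG2 K (3 ^ m)).subgroupOf (twistedG2 K (3 ^ m)) with hB1
  let n0 : ↥(twistedG2 K (3 ^ m)) := ⟨h0 * (bnData_of_mem K memG2).hB.nW wG2, hn⟩
  let a : ↥(twistedG2 K (3 ^ m)) := ⟨hR K m (-1), hR_mem_G1 hK T hρR hf (-1)⟩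
  have hUB : U1 K m ≤ B1 := by
    intro g hg
    rw [mem_U1] at hg
    exact (mem_B1' g).2 (Base.U_le_B hg)
  have hcov : ∀ g : ↥(twistedG2 K (3 ^ m)), g ∈ B1 ∨ ∃ u ∈ U1 K m, ∃ b ∈ B1, g = u * n0 * b := by
    intro g
    rcases bruhat hK T hρR hf g.2 with hB | ⟨u₁, hu₁, h, hh, hg1, u₂, hu₂, e⟩
    · exact Or.inl ((mem_B1' g).2 hB)
    · right
      refine ⟨⟨u₁, hu₁.2⟩, (mem_U1 _).2 hu₁.1, n0⁻¹ * ⟨_, hg1⟩ * ⟨u₂, hu₂.2⟩, ?_, ?_⟩
      · rw [mem_B1']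
        show (h0 * (bnData_of_mem K memG2).hB.nW wG2)⁻¹ * (h * (bnData_of_mem K memG2).hB.nW wG2) * u₂ ∈ _
        refine mul_mem (Base.H_le_B ?_) (Base.U_le_B hu₂.1)
        have e1 : (h0 * (bnData_of_mem K memG2).hB.nW wG2)⁻¹ * (h * (bnData_of_mem K memG2).hB.nW wG2) =
            ((bnData_of_mem K memG2).hB.nW wG2)⁻¹ * (h0⁻¹ * h) * (bnData_of_mem K memG2).hB.nW wG2 := by group
        rw [e1]
        exact ((bnData_of_mem K memG2).hB.N_conj_H (bnData_of_mem K memG2).hT.tab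
          ((bnData_of_mem K memG2).hB.nW_mem (bnData_of_mem K memG2).hT.tab isLong_wG2.lt)).2 _
          (mul_mem (inv_mem hh0) hh)
      · apply Subtype.ext
        show (g : GL chevG2.Idx K) = u₁ * (h0 * (bnData_of_mem K memG2).hB.nW wG2) *
          ((h0 * (bnData_of_mem K memG2).hB.nW wG2)⁻¹ * (h * (bnData_of_mem K memG2).hB.nW wG2) * u₂)
        rw [e]; group
  have hst : ∀ w ∈ U1 K m, w ≠ 1 → ∀ s ∈ B1, n0⁻¹ * s * n0 ∈ B1 → (w * n0)⁻¹ * s * (w * n0) ∈ B1 → s = 1 ∨ s = a := by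
    intro w hw hw1 s hs hs1 hs2
    rw [mem_U1] at hw
    rw [mem_B1'] at hs hs1 hs2
    have hsH : (s : GL chevG2.Idx K) ∈ chevG2.diagonalSubgroup K := mem_H_of_conj hh0 hs hs1
    have hc := commute_of_conj hh0 hsH hw hs2
    rcases centralizer_H1 hK T hρR hf ⟨hsH, s.2⟩ ⟨hw, w.2⟩ (fun h => hw1 (Subtype.ext h)) hc with h | h
    · exact Or.inl (Subtype.ext h)
    · exact Or.inr (Subtype.ext h)
  have part1 := card_stab3_le B1 (U1 K m) n0 a hUB hcov hst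
  refine ⟨part1, ?_⟩
  let w0 : ↥(twistedG2 K (3 ^ m)) := ⟨Wd hK T hρR hf 0 1 0, Wd_mem_G1 hK T hρR hf 0 1 0⟩
  have hw0U : (w0 : GL chevG2.Idx K) ∈ chevG2.posUnipotent K := (Wd_mem hK T hρR hf 0 1 0).1
  have hxy : (((1 : ↥(twistedG2 K (3 ^ m))) : ↥(twistedG2 K (3 ^ m)) ⧸ B1)) ≠ ((n0 : ↥(twistedG2 K (3 ^ m))) : _ ⧸ B1) := by
    intro h
    rw [QuotientGroup.eq, inv_one, one_mul, mem_B1'] at h
    exact not_mem_B hK T hρR hf hh0 h
  have hxz : (((1 : ↥(twistedG2 K (3 ^ m))) : ↥(twistedG2 K (3 ^ m)) ⧸ B1)) ≠ ((w0 * n0 : ↥(twistedG2 K (3 ^ m))) : _ ⧸ B1) := by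
    intro h
    rw [QuotientGroup.eq, inv_one, one_mul, mem_B1'] at h
    apply not_mem_B hK T hρR hf hh0
    have e : h0 * (bnData_of_mem K memG2).hB.nW wG2 = (w0 : GL chevG2.Idx K)⁻¹ * ((w0 * n0 : ↥(twistedG2 K (3 ^ m))) :
        GL chevG2.Idx K) := by
      show _ = (w0 : GL chevG2.Idx K)⁻¹ * ((w0 : GL chevG2.Idx K) * (h0 * (bnData_of_mem K memG2).hB.nW wG2))
      group
    rw [e]
    exact mul_mem (inv_mem (Base.U_le_B hw0U)) h
  have hyz : (((n0 : ↥(twistedG2 K (3 ^ m))) : ↥(twistedG2 K (3 ^ m)) ⧸ B1)) ≠ ((w0 * n0 : ↥(twistedG2 K (3 ^ m))) : _ ⧸ B1) := by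
    intro h
    rw [QuotientGroup.eq, mem_B1'] at h
    have h1 : (w0 : GL chevG2.Idx K) ∈ chevG2.diagonalSubgroup K := by
      refine mem_H_of_conj hh0 (Base.U_le_B hw0U) ?_
      have e : (h0 * (bnData_of_mem K memG2).hB.nW wG2)⁻¹ * (w0 : GL chevG2.Idx K) *
          (h0 * (bnData_of_mem K memG2).hB.nW wG2) = ((n0⁻¹ * (w0 * n0) : ↥(twistedG2 K (3 ^ m))) : GL chevG2.Idx K) := by
        show _ = (h0 * (bnData_of_mem K memG2).hB.nW wG2)⁻¹ * ((w0 : GL chevG2.Idx K) *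
          (h0 * (bnData_of_mem K memG2).hB.nW wG2))
        group
      rw [e]; exact h
    have h2 : (w0 : GL chevG2.Idx K) ∈ chevG2.posUnipotent K ⊓ chevG2.diagonalSubgroup K := ⟨hw0U, h1⟩
    rw [(bnData_of_mem K memG2).hB.U_inf_H (bnData_of_mem K memG2).hT.toTabs, Subgroup.mem_bot] at h2
    exact Wd_ne_one hK T hρR hf (by simp) h2
  refine ⟨_, _, _, hxy, hxz, hyz, le_antisymm (part1 _ _ _ hxy hxz hyz) ?_⟩
  have haH : (a : GL chevG2.Idx K) ∈ chevG2.diagonalSubgroup K := hR_mem_H (-1)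
  have ha2 : (h0 * (bnData_of_mem K memG2).hB.nW wG2)⁻¹ * (a : GL chevG2.Idx K) *
      (h0 * (bnData_of_mem K memG2).hB.nW wG2) ∈ chevG2.borelSubgroup K :=
    Base.H_le_B (((bnData_of_mem K memG2).hB.N_conj_H (bnData_of_mem K memG2).hT.tab hnN).2 _ haH)
  have hcomm : (w0 : GL chevG2.Idx K)⁻¹ * (a : GL chevG2.Idx K) * (w0 : GL chevG2.Idx K) = a := by
    have h1 := conj_Wd hK T hρR hf (-1) 0 1 0
    rw [ch3_neg_one, mul_zero, mul_zero, Units.val_one, one_mul] at h1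
    have h2 : hR K m (-1) * Wd hK T hρR hf 0 1 0 = Wd hK T hρR hf 0 1 0 * hR K m (-1) := mul_inv_eq_iff_eq_mul.mp h1
    show (Wd hK T hρR hf 0 1 0)⁻¹ * hR K m (-1) * Wd hK T hρR hf 0 1 0 = hR K m (-1)
    rw [mul_assoc, h2]; group
  have hmem : a ∈ MulAction.stabilizer ↥(twistedG2 K (3 ^ m)) (((1 : ↥(twistedG2 K (3 ^ m))) : ↥(twistedG2 K (3 ^ m)) ⧸ B1)) ⊓
      MulAction.stabilizer ↥(twistedG2 K (3 ^ m)) ((n0 : ↥(twistedG2 K (3 ^ m))) : _ ⧸ B1) ⊓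
      MulAction.stabilizer ↥(twistedG2 K (3 ^ m)) ((w0 * n0 : ↥(twistedG2 K (3 ^ m))) : _ ⧸ B1) := by
    refine Subgroup.mem_inf.mpr ⟨Subgroup.mem_inf.mpr ⟨?_, ?_⟩, ?_⟩
    · rw [mem_stab_mk, mem_B1']
      simpa using Base.H_le_B haH
    · rw [mem_stab_mk, mem_B1']
      exact ha2
    · rw [mem_stab_mk, mem_B1']
      have e : (((w0 * n0)⁻¹ * a * (w0 * n0) : ↥(twistedG2 K (3 ^ m))) : GL chevG2.Idx K) =
          (h0 * (bnData_of_mem K memG2).hB.nW wG2)⁻¹ * ((w0 : GL chevG2.Idx K)⁻¹ * (a : GL chevG2.Idx K) *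
            (w0 : GL chevG2.Idx K)) * (h0 * (bnData_of_mem K memG2).hB.nW wG2) := by
        show ((w0 : GL chevG2.Idx K) * (h0 * (bnData_of_mem K memG2).hB.nW wG2))⁻¹ * (a : GL chevG2.Idx K) *
          ((w0 : GL chevG2.Idx K) * (h0 * (bnData_of_mem K memG2).hB.nW wG2)) = _
        group
      rw [e, hcomm]
      exact ha2
  have ha1 : a ≠ 1 := by
    intro h
    have h1 : hR K m (-1) = hR K m 1 := by
      rw [map_one]; exact congrArg (fun g : ↥(twistedG2 K (3 ^ m)) => (g : GL chevG2.Idx K)) h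
    exact neg_one_ne_one (hR_injective h1)
  have : Nontrivial ↥(MulAction.stabilizer ↥(twistedG2 K (3 ^ m)) (((1 : ↥(twistedG2 K (3 ^ m))) : ↥(twistedG2 K (3 ^ m)) ⧸ B1)) ⊓
      MulAction.stabilizer ↥(twistedG2 K (3 ^ m)) ((n0 : ↥(twistedG2 K (3 ^ m))) : _ ⧸ B1) ⊓
      MulAction.stabilizer ↥(twistedG2 K (3 ^ m)) ((w0 * n0 : ↥(twistedG2 K (3 ^ m))) : _ ⧸ B1)) :=
    ⟨⟨a, hmem⟩, 1, fun h => ha1 (congrArg Subtype.val h)⟩
  exact Finite.one_lt_card_iff_nontrivial.mpr this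

end Cfsg.Agent.Lib.Lead.Ree
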