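import Cfsg.Agent.Lib.Lead.ReeBN

set_option autoImplicit false

/-!
# `²G₂`: the group `U¹`
-/

namespace Cfsg.Agent.Lib.Lead.ReeWord.Sys

variable {G K : Type*} [Group G] [Field K] (S : Sys G K)

theorem word_injective
    (huniq : ∀ b a c1 c2 c3 c4 b' a' c1' c2' c3' c4' : K,
      S.xb b * S.xa a * S.y c1 c2 c3 c4 = S.xb b' * S.xa a' * S.y c1' c2' c3' c4' →
      b = b' ∧ a = a' ∧ c1 = c1' ∧ c2 = c2' ∧ c3 = c3' ∧ c4 = c4')
    {t u v t' u' v' : K} (h : S.word t u v = S.word t' u' v') : t = t' ∧ u = u' ∧ v = v' := by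
  rw [S.word_eq, S.word_eq] at h
  obtain ⟨h1, -, -, -, h3, h4⟩ := huniq _ _ _ _ _ _ _ _ _ _ _ _ h
  have hδ0 : S.δ ≠ 0 := by rcases S.hδ with h | h <;> rw [h] <;> simp
  have e1 : t = t' := mul_left_cancel₀ hδ0 h1
  subst e1
  exact ⟨rfl, add_right_cancel (mul_left_cancel₀ hδ0 h3), add_right_cancel (mul_left_cancel₀ hδ0 h4)⟩

end Cfsg.Agent.Lib.Lead.ReeWord.Sys

namespace Cfsg.Agent.Lib.Lead.Ree

open Cfsg.Lie Matrix Cfsg.Agent.Lib.Helper6 Cfsg.Agent.Lib.Helper18 Cfsg.Agent.Lib.Lead.ChevSpecial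
  Cfsg.Agent.Lib.Lead.FixTwist Cfsg.Agent.Lib.Helper17

variable {K : Type*} [Field K] [Fintype K] {m : ℕ} (hK : Fintype.card K = 3 ^ (2 * m + 1))
  (T : STwist (bnData_of_mem K memG2))
  (hρR : T.ρR = rhoRG2) (hf : ∀ r t, T.f r t = t ^ (3 ^ (m + kG2 r))) [CharP K 3] [Fact (Nat.Prime 3)]

include hK hρR hf in
theorem U_inf_G1_eq : chevG2.posUnipotent K ⊓ twistedG2 K (3 ^ m) = chevG2.posUnipotent K ⊓ T.F :=
  le_antisymm (inf_le_inf_left _ (G1_le_F hK T hρR hf)) (le_inf inf_le_left (U_inf_F_le hK T hρR hf))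

include hK hρR hf in
theorem card_U_inf_F : Nat.card ↥(chevG2.posUnipotent K ⊓ T.F) = (3 ^ (2 * m + 1)) ^ 3 := by
  have e : Nat.card (K × K × K) = (3 ^ (2 * m + 1)) ^ 3 := by
    rw [Nat.card_prod, Nat.card_prod, Nat.card_eq_fintype_card, hK]; ring
  rw [← e]
  symm
  apply Nat.card_congr
  refine Equiv.ofBijective (fun p => ⟨(((sysU hK T hρR hf).word p.1 p.2.1 p.2.2 : ↥(chevG2.group K)) :
    GL chevG2.Idx K), wordU_mem_U hK T hρR hf _ _ _, wordU_mem_F hK T hρR hf _ _ _⟩) ⟨?_, ?_⟩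
  · rintro ⟨t, u, v⟩ ⟨t', u', v'⟩ h
    have h1 : (sysU hK T hρR hf).word t u v = (sysU hK T hρR hf).word t' u' v' :=
      Subtype.ext (congrArg (fun x : ↥(chevG2.posUnipotent K ⊓ T.F) => (x : GL chevG2.Idx K)) h)
    obtain ⟨rfl, rfl, rfl⟩ := (sysU hK T hρR hf).word_injective (huniqU hK T hρR hf) h1
    rfl
  · rintro ⟨g, hg⟩
    obtain ⟨t, u, v, h⟩ := (mem_U_inf_F_iff hK T hρR hf g).1 hg
    refine ⟨(t, u, v), Subtype.ext (Units.ext ?_)⟩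
    rw [h]
    exact coe_wordU hK T hρR hf t u v

end Cfsg.Agent.Lib.Lead.Ree
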